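import Cfsg.Agent.H343.PG.FfNum
import Cfsg.Agent.H129.SuzT
import Cfsg.Agent.H944.TorAnyChev

/-!
# `²F₄(q)` has no elements of order 15 (helper343, for S3635)

`x` of order prime to 2, fixed by the endomorphism `ste`: `x` is conjugate to a torus element `t` over an algebraic
closure, and `ste t` is conjugate to `t`. The action on the ideal of dimension 26 (in characteristic 2) shows that as many
short roots as long roots take the value 1 at `t`. This holds for `t`, `t ^ 3`, `t ^ 5`, which is impossible for `t` of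
order 15 (`Ff.fin_check`).
-/

set_option autoImplicit false
set_option linter.unusedSectionVars false

namespace Cfsg.Agent.H343.PG.TwF4Fifteen

open CoxeterSystem Cfsg Cfsg.Lie Cfsg.Lie.ChevalleyDatum
open Cfsg.Agent.ChevalleyStructure Cfsg.Agent.ChevalleyStructure.Elts Cfsg.Agent.ChevalleyStructure.CoxeterGeom
  Cfsg.Agent.ChevalleyStructure.CoxeterGeomTypes Cfsg.Agent.ChevalleyStructure.NPerm
open Cfsg.Agent.Tits.Roots Cfsg.Agent.Tits.Core Cfsg.Agent.Nodes Cfsg.Agent.Nodes.Reps Cfsg.Agent.Nodes.BNOf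
  Cfsg.Agent.Nodes.RGDChev
open Cfsg.Agent.KFacts.RgdField Cfsg.Agent.KFacts.RgdChevCoord Cfsg.Agent.BpExc.TorCent Cfsg.Agent.BpExc.TorChev
open Cfsg.Agent.GpExc.Field Cfsg.Agent.BpExc.Tow Cfsg.Agent.BpExc.TowChev
  Cfsg.Agent.BpExc.LangFr Cfsg.Agent.BpExc Cfsg.Agent.H129.TorusChar Cfsg.Agent.H129
open Cfsg.Agent.ChevalleyStructure.TwF4.Fix (isLong io ro Amat Cmat)
open Cfsg.Agent.H493.F4End Cfsg.Agent.H493.F4Fix Cfsg.Agent.H493.F4Tor
open Cfsg.Agent.H343.PG.Ff
open Cfsg.Agent.BpExc.TorAll (HAlg)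

universe u

/-- the weight of a basis vector -/
def Wv : chevF4.Idx → (Fin 4 → ℤ)
  | Sum.inl _ => 0
  | Sum.inr s => vec chevF4 4 s

/-- the image of the weight -/
def Wb : chevF4.Idx → (Fin 4 → ℤ)
  | Sum.inl _ => 0
  | Sum.inr s => vec chevF4 4 (TwF4.Rel.bar s)

theorem charpoly_hom {G : Type*} [Group G] {n : Type*} [Fintype n] [DecidableEq n] {R : Type*} [CommRing R]
    (f : G →* (Matrix n n R)ˣ) (g x : G) :
    ((f (g * x * g⁻¹) : (Matrix n n R)ˣ) : Matrix n n R).charpoly = ((f x : (Matrix n n R)ˣ) : Matrix n n R).charpoly := by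
  rw [map_mul, map_mul, map_inv, Units.val_mul, Units.val_mul]
  rw [Matrix.charpoly_mul_comm, ← mul_assoc, Units.inv_mul, one_mul]

section Alg

variable {k : Type u} [Field k] [IsAlgClosed k] [CharP k 2]

theorem nroots : chevF4.nroots = 48 := by decide +kernel

/-- the matrix of a torus element -/
theorem mt_TT {t : ↥(chevF4.group k)} (ht : t ∈ TT chevF4 k) : mt t = Matrix.diagonal (fun i => cX hp t (Wv i)) := by
  have ht' := ht
  rw [Subgroup.mem_subgroupOf] at ht'
  obtain ⟨c, hc, hm, hact⟩ := Tor.exists_c hp ht'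
  have key : ∀ s, s < chevF4.nroots → ch hp (vec chevF4 4 s) t = ∏ i ∈ Finset.range chevF4.rank, c i ^ chevF4.cartan i s := by
    intro s hs
    apply ch_eq hp hs ht
    apply Subtype.ext
    rw [Subgroup.coe_mul, Subgroup.coe_mul, Subgroup.coe_inv, coe_xc hp hs, coe_xc hp hs, hact s hs, mul_one]
  refine hm.trans ?_
  congr 1
  funext i
  rcases i with i | s
  · exact ((isMC_cX hp ht).zero).symm
  · show _ = cX hp t (vec chevF4 4 s)
    rw [cX_vec hp ht s.2, key _ s.2]
    rfl

theorem io_inj : Function.Injective io := by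
  have h : ∀ a b : Fin 26, io a = io b → a = b := by decide +kernel
  exact fun a b => h a b

theorem Amat_TT {t : ↥(chevF4.group k)} (ht : t ∈ TT chevF4 k) :
    Amat (mt t) = Matrix.diagonal (fun a => cX hp t (Wv (io a))) := by
  rw [mt_TT ht]
  exact Matrix.submatrix_diagonal _ _ io_inj

theorem charpoly_conj (g x : ↥(chevF4.group k)) : (Amat (mt (g * x * g⁻¹))).charpoly = (Amat (mt x)).charpoly :=
  charpoly_hom (iA k) g x

theorem charpoly_TT {t : ↥(chevF4.group k)} (ht : t ∈ TT chevF4 k) :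
    (Amat (mt t)).charpoly.roots = Finset.univ.val.map (fun a => cX hp t (Wv (io a))) := by
  rw [Amat_TT ht, Matrix.charpoly_diagonal]
  have h := Polynomial.roots_multiset_prod_X_sub_C (Finset.univ.val.map (fun a : Fin 26 => cX hp t (Wv (io a))))
  rw [Multiset.map_map] at h
  exact h

open Classical in
/-- conjugate torus elements have the same number of trivial weights -/
theorem card_conj {t t' : ↥(chevF4.group k)} (ht : t ∈ TT chevF4 k) (ht' : t' ∈ TT chevF4 k) {g : ↥(chevF4.group k)}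
    (h : t' = g * t * g⁻¹) : (Finset.univ.filter (fun a : Fin 26 => cX hp t (Wv (io a)) = 1)).card =
      (Finset.univ.filter (fun a : Fin 26 => cX hp t' (Wv (io a)) = 1)).card := by
  have h1 := charpoly_TT ht'
  rw [h, charpoly_conj, charpoly_TT ht] at h1
  have h2 := congrArg (Multiset.count 1) h1
  rw [Multiset.count_map, Multiset.count_map] at h2
  have e : ∀ s : ↥(chevF4.group k), (Finset.univ.filter (fun a : Fin 26 => cX hp s (Wv (io a)) = 1)).card =
      (Multiset.filter (fun a : Fin 26 => 1 = cX hp s (Wv (io a))) Finset.univ.val).card := by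
    intro s
    rw [Finset.card_def, Finset.filter_val]
    congr 1
    exact Multiset.filter_congr fun a _ => eq_comm
  rw [e, e, h2, h]

theorem pow_ex {m r : ℕ} (hr : r < 48) {z : k} : z ^ ex m r = 1 ↔ z = 1 := by
  constructor
  · intro h
    have h1 : z ^ 2 ^ (2 * m + 1) = 1 := by rw [← ex_bar hr, pow_mul, h, one_pow]
    have : ExpChar k 2 := ExpChar.prime Nat.prime_two
    have h2 := (ExpChar.pow_prime_pow_mul_eq_one_iff 2 (2 * m + 1) 1 z).1 (by rw [mul_one]; exact h1)
    rwa [pow_one] at h2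
  · rintro rfl
    exact one_pow _

theorem cX_ste_iff (m : ℕ) {t : ↥(chevF4.group k)} (ht : t ∈ TT chevF4 k) (i : chevF4.Idx) :
    cX hp (ste k m t) (Wv i) = 1 ↔ cX hp t (Wb i) = 1 := by
  rcases i with i | s
  · show cX hp (ste k m t) 0 = 1 ↔ cX hp t 0 = 1
    rw [(isMC_cX hp ht).zero, (isMC_cX hp (ste_TT ht)).zero]
  · have hs : (s : ℕ) < 48 := lt_of_lt_of_eq s.2 nroots
    have hb := TwF4.Fix.bar_lt s hs
    show cX hp (ste k m t) (vec chevF4 4 s) = 1 ↔ cX hp t (vec chevF4 4 (TwF4.Rel.bar s)) = 1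
    rw [cX_vec hp (ste_TT ht) s.2, cX_vec hp ht (lt_of_lt_of_eq hb nroots.symm)]
    have h := ch_ste m ht hb
    rw [bar_bar hs] at h
    rw [h, pow_ex hb]

open Classical in
/-- **As many short as long weights are trivial.** -/
theorem card_eq {m : ℕ} {t g : ↥(chevF4.group k)} (ht : t ∈ TT chevF4 k) (h : ste k m t = g * t * g⁻¹) :
    (Finset.univ.filter (fun a : Fin 26 => cX hp t (Wv (io a)) = 1)).card =
      (Finset.univ.filter (fun a : Fin 26 => cX hp t (Wb (io a)) = 1)).card := by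
  rw [card_conj ht (ste_TT ht) h]
  congr 1
  refine Finset.filter_congr fun a _ => ?_
  exact cX_ste_iff m ht (io a)

/-! ### the tables -/

/-- the coordinates -/
def comp (v : ℕ × ℕ × ℕ × ℕ) : Fin 4 → ℕ := ![v.1, v.2.1, v.2.2.1, v.2.2.2]

theorem tabS : ∀ a : Fin 26, ∀ j : Fin 4, (15 : ℤ) ∣ Wv (io a) j - (comp (SL.get a) j : ℤ) := by
  decide +kernel

theorem tabL : ∀ a : Fin 26, ∀ j : Fin 4, (15 : ℤ) ∣ Wb (io a) j - (comp (LL.get a) j : ℤ) := by
  decide +kernel

theorem cX_eq {ζ : k} (hζ : ζ ^ 15 = 1) {t : ↥(chevF4.group k)} {e : Fin 4 → ℕ} (he : ∀ j, ch hp (sr j) t = ζ ^ e j)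
    {x : Fin 4 → ℤ} {v : ℕ × ℕ × ℕ × ℕ} (h : ∀ j, (15 : ℤ) ∣ x j - (comp v j : ℤ)) :
    cX hp t x = ζ ^ ev v (e 0) (e 1) (e 2) (e 3) := by
  have hζ0 : ζ ≠ 0 := by
    rintro rfl
    rw [zero_pow (by norm_num)] at hζ
    exact zero_ne_one hζ
  have key : ∀ j, ch hp (sr j) t ^ x j = ζ ^ (comp v j * e j) := by
    intro j
    obtain ⟨z, hz⟩ := h j
    have hx : x j = (comp v j : ℤ) + 15 * z := by linarith
    have h15 : (ζ ^ e j) ^ (15 : ℤ) = 1 := by
      have : (15 : ℤ) = ((15 : ℕ) : ℤ) := rfl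
      rw [this, zpow_natCast, ← pow_mul, mul_comm, pow_mul, hζ, one_pow]
    rw [he, hx, zpow_add₀ (pow_ne_zero _ hζ0), zpow_mul, h15, one_zpow, mul_one, zpow_natCast, ← pow_mul, mul_comm]
  unfold cX
  rw [Finset.prod_congr rfl fun j _ => key j, Finset.prod_pow_eq_pow_sum, Fin.sum_univ_four]
  rfl

theorem card_list {q : Fin 26 → Prop} [DecidablePred q] {M : List (ℕ × ℕ × ℕ × ℕ)} (hM : M.length = 26) {n a b c d : ℕ}
    (h : ∀ i : Fin 26, q i ↔ ev (M.get (Fin.cast hM.symm i)) a b c d % n = 0) :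
    (Finset.univ.filter q).card = ct (zs M n a b c d) := by
  unfold zs
  rw [ct_map]
  refine Finset.card_bij (fun i _ => Fin.cast hM.symm i) ?_ ?_ ?_
  · intro i hi
    rw [Finset.mem_filter] at hi ⊢
    exact ⟨Finset.mem_univ _, beq_iff_eq.2 ((h i).1 hi.2)⟩
  · intro i _ j _ hij
    exact Fin.cast_injective _ hij
  · intro i hi
    rw [Finset.mem_filter] at hi
    refine ⟨Fin.cast hM i, ?_, rfl⟩
    rw [Finset.mem_filter]
    exact ⟨Finset.mem_univ _, (h _).2 (beq_iff_eq.1 hi.2)⟩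

/-- **No torus element of order 15.** -/
theorem no_torus {m : ℕ} {t g : ↥(chevF4.group k)} (ht : t ∈ TT chevF4 k) (h : ste k m t = g * t * g⁻¹)
    (ho : orderOf t = 15) : False := by
  classical
  have h2 : (2 : k) = 0 := CharTwo.two_eq_zero
  have : NeZero ((15 : ℕ) : k) := ⟨by
    have e : ((15 : ℕ) : k) = 2 * 7 + 1 := by push_cast; norm_num
    rw [e, h2, zero_mul, zero_add]
    exact one_ne_zero⟩
  obtain ⟨ζ, hζ⟩ : ∃ ζ : k, IsPrimitiveRoot ζ 15 := HasEnoughRootsOfUnity.exists_primitiveRoot k 15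
  have ht15 : t ^ 15 = 1 := by rw [← ho, pow_orderOf_eq_one]
  have hex : ∀ j : Fin 4, ∃ a : ℕ, ch hp (sr j) t = ζ ^ a := by
    intro j
    have h1 : ch hp (sr j) t ^ 15 = 1 := by
      rw [← cX_sr hp, ← cX_pow hp ht, ht15, cX_one]
    obtain ⟨a, -, ha⟩ := hζ.eq_pow_of_pow_eq_one h1
    exact ⟨a, ha.symm⟩
  choose e he using hex
  -- the powers
  have hpow : ∀ n : ℕ, (Finset.univ.filter (fun a : Fin 26 => cX hp (t ^ n) (Wv (io a)) = 1)).card =
      (Finset.univ.filter (fun a : Fin 26 => cX hp (t ^ n) (Wb (io a)) = 1)).card := by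
    intro n
    refine card_eq (m := m) (g := g) (pow_mem ht n) ?_
    rw [map_pow, h, conj_pow]
  have hS : ∀ n (a : Fin 26), cX hp (t ^ n) (Wv (io a)) = 1 ↔
      15 ∣ ev (SL.get a) (e 0) (e 1) (e 2) (e 3) * n := by
    intro n a
    rw [cX_pow hp ht, cX_eq hζ.pow_eq_one he (tabS a), ← pow_mul, hζ.pow_eq_one_iff_dvd]
  have hL : ∀ n (a : Fin 26), cX hp (t ^ n) (Wb (io a)) = 1 ↔
      15 ∣ ev (LL.get a) (e 0) (e 1) (e 2) (e 3) * n := by
    intro n a
    rw [cX_pow hp ht, cX_eq hζ.pow_eq_one he (tabL a), ← pow_mul, hζ.pow_eq_one_iff_dvd]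
  have main : ∀ n d : ℕ, (∀ x : ℕ, 15 ∣ x * n ↔ x % d = 0) →
      ct (zs SL d (e 0) (e 1) (e 2) (e 3)) = ct (zs LL d (e 0) (e 1) (e 2) (e 3)) := by
    intro n d hnd
    have h1 := hpow n
    rw [card_list (M := SL) rfl (n := d) (a := e 0) (b := e 1) (c := e 2) (d := e 3)
      fun i => (hS n i).trans (hnd _), card_list (M := LL) rfl (n := d) (a := e 0) (b := e 1) (c := e 2) (d := e 3)
      fun i => (hL n i).trans (hnd _)] at h1
    exact h1
  have c3 := main 5 3 (fun x => by omega)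
  have c5 := main 3 5 (fun x => by omega)
  have c15 := main 1 15 (fun x => by omega)
  have hdv : ∀ n d : ℕ, n * d = 15 → (∀ j : Fin 4, d ∣ e j) → t ^ n = 1 := by
    intro n d hnd hj
    refine cX_inj hp (pow_mem ht n) (one_mem _) fun j => ?_
    obtain ⟨c, hc⟩ := hj j
    rw [cX_pow hp ht, cX_one, cX_sr, he, ← pow_mul, hc, show d * c * n = n * d * c by ring, hnd, pow_mul,
      hζ.pow_eq_one, one_pow]
  rcases fin_check c3 c5 c15 with h3 | h5
  · have h6 := hdv 5 3 rfl (fun j => by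
      fin_cases j
      · exact h3.1
      · exact h3.2.1
      · exact h3.2.2.1
      · exact h3.2.2.2)
    have h7 := orderOf_dvd_of_pow_eq_one h6
    rw [ho] at h7
    omega
  · have h6 := hdv 3 5 rfl (fun j => by
      fin_cases j
      · exact h5.1
      · exact h5.2.1
      · exact h5.2.2.1
      · exact h5.2.2.2)
    have h7 := orderOf_dvd_of_pow_eq_one h6
    rw [ho] at h7
    omega

end Alg

section Fin

variable {K : Type u} [Field K] [Fintype K] {m : ℕ}

/-- every element of an algebraic closure of a finite field lies in a finite field -/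
theorem hAlg_closure (p : ℕ) [Fact p.Prime] (F : Type u) [Field F] [Finite F] [CharP F p] :
    HAlg p (AlgebraicClosure F) := by
  intro a
  have hint : IsIntegral F a := (Algebra.IsAlgebraic.isAlgebraic a).isIntegral
  have hfd : FiniteDimensional F (IntermediateField.adjoin F {a}) := IntermediateField.adjoin.finiteDimensional hint
  have hfin : Finite (IntermediateField.adjoin F {a}) := Module.finite_of_finite F
  have : Fintype (IntermediateField.adjoin F {a}) := Fintype.ofFinite _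
  have hch : CharP (IntermediateField.adjoin F {a}) p := charP_of_injective_algebraMap
    (algebraMap F (IntermediateField.adjoin F {a})).injective p
  obtain ⟨⟨m, hm⟩, hp', hcard⟩ := FiniteField.card (IntermediateField.adjoin F {a}) p
  have h1 := FiniteField.pow_card (⟨a, IntermediateField.mem_adjoin_simple_self F a⟩ :
    IntermediateField.adjoin F {a})
  rw [hcard] at h1
  exact ⟨m, hm, congrArg Subtype.val h1⟩

open Cfsg.Agent.ChevalleyStructure.TwF4.TwistedFix in
/-- **`²F₄(q)` has no elements of order 15.** -/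
theorem not_exists_fifteen (hK : Fintype.card K = 2 ^ (2 * m + 1)) :
    ¬ ∃ x : ↥(twistedF4 K (2 ^ m)), orderOf x = 15 := by
  rintro ⟨x, hx⟩
  have : Fact (Nat.Prime 2) := ⟨Nat.prime_two⟩
  have hc2 : CharP K 2 := F4Fixed.charP_two hK
  obtain ⟨φ, hφ⟩ := exists_rln hK
  have hkch : CharP (AlgebraicClosure K) 2 := charP_of_injective_algebraMap (algebraMap K (AlgebraicClosure K)).injective 2
  have hk : HAlg 2 (AlgebraicClosure K) := hAlg_closure 2 K
  set x1 : ↥(chevF4.group K) := ⟨(x : GL chevF4.Idx K), SuzT.twisted_le K m x.2⟩ with hx1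
  have ho1 : orderOf x1 = 15 := by
    rw [← hx, ← Subgroup.orderOf_coe x1, ← Subgroup.orderOf_coe x]
  have hs1 : ste K m x1 = x1 := SuzT.ste_of_twisted hφ x.2
  set x2 : ↥(chevF4.group (AlgebraicClosure K)) := emb Cfsg.Agent.H493.F4End.hD (algebraMap K (AlgebraicClosure K)) x1 with hx2
  have ho2 : orderOf x2 = 15 := by
    rw [← ho1]
    exact orderOf_injective _ (emb_injective _ _) x1
  have hs2 : ste (AlgebraicClosure K) m x2 = x2 := by
    rw [hx2, ← emb_ste, hs1]
  obtain ⟨g, hg⟩ := Cfsg.Agent.H944.TorAnyChev.exists_conj_mem_TT hp 2 hk (q := 15) (by norm_num) (by decide)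
    (by rw [← ho2, pow_orderOf_eq_one] : x2 ^ 15 = 1)
  refine no_torus (m := m) (g := ste (AlgebraicClosure K) m g * g⁻¹) hg ?_ ?_
  · rw [map_mul, map_mul, map_inv, hs2]
    group
  · rw [← ho2]
    exact orderOf_injective (MulAut.conj g).toMonoidHom (MulAut.conj g).injective x2

end Fin

end Cfsg.Agent.H343.PG.TwF4Fifteen
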