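import Mathlib

/-!
# Zero patterns of the roots of `F₄` modulo 3 and 5 (helper343, for S3635)

The weights of the 26-dimensional modules of `F₄` in characteristic 2 (zero twice and the short roots, zero twice and the
halves of the long roots), coordinates modulo 15; `fin_check` : no `(a, b, c, d)`, nonzero modulo 3 and modulo 5, vanishes
modulo 3, modulo 5 and modulo 15 equally often on both.
-/

set_option autoImplicit false

namespace Cfsg.Agent.H343.PG.Ff

/-- a linear form at a weight -/
def ev (v : ℕ × ℕ × ℕ × ℕ) (a b c d : ℕ) : ℕ := v.1 * a + v.2.1 * b + v.2.2.1 * c + v.2.2.2 * d

/-- the short weights -/
def SL : List (ℕ × ℕ × ℕ × ℕ) :=
  [(13, 12, 13, 14), (14, 12, 13, 14), (14, 13, 13, 14), (14, 13, 14, 14), (14, 13, 14, 0), (14, 14, 14, 14), (14, 14,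
  14, 0), (14, 14, 0, 0), (14, 0, 0, 0), (0, 14, 14, 14), (0, 14, 14, 0), (0, 14, 0, 0), (0, 0, 0, 0), (0, 0, 0, 0),
  (0, 1, 0, 0), (0, 1, 1, 0), (0, 1, 1, 1), (1, 0, 0, 0), (1, 1, 0, 0), (1, 1, 1, 0), (1, 1, 1, 1), (1, 2, 1, 0),
  (1, 2, 1, 1), (1, 2, 2, 1), (1, 3, 2, 1), (2, 3, 2, 1)]

/-- the long weights -/
def LL : List (ℕ × ℕ × ℕ × ℕ) :=
  [(13, 11, 12, 13), (13, 11, 12, 14), (13, 11, 13, 14), (13, 13, 13, 14), (0, 13, 13, 14), (13, 13, 14, 14), (0, 13,
  14, 14), (0, 0, 14, 14), (0, 0, 0, 14), (13, 13, 14, 0), (0, 13, 14, 0), (0, 0, 14, 0), (0, 0, 0, 0), (0, 0, 0,
  0), (0, 0, 1, 0), (0, 2, 1, 0), (2, 2, 1, 0), (0, 0, 0, 1), (0, 0, 1, 1), (0, 2, 1, 1), (2, 2, 1, 1), (0, 2, 2,
  1), (2, 2, 2, 1), (2, 4, 2, 1), (2, 4, 3, 1), (2, 4, 3, 2)]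

/-- the zero pattern -/
def zs (M : List (ℕ × ℕ × ℕ × ℕ)) (n a b c d : ℕ) : List Bool := M.map fun v => ev v a b c d % n == 0

/-- the number of zeros -/
def ct (l : List Bool) : ℕ := l.count true

/-- the common zeros -/
def both (l l' : List Bool) : List Bool := List.zipWith (fun x y => x && y) l l'

/-- the patterns modulo 3 -/
def A3 : List (List Bool × List Bool) := [
  ([false, false, false, false, false, false, false, true, true, false, false, true, true, true, true, false, false,
  true, true, false, false, false, false, false, false, false], [true, true, false, false, false, false, false,
  false, true, false, false, false, true, true, false, false, false, true, false, false, false, false, false, false,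
  true, true]),
  ([false, false, false, false, false, false, true, false, true, false, true, false, true, true, false, true, false,
  true, false, true, false, false, false, false, false, false], [true, false, true, false, false, false, false,
  true, false, false, false, false, true, true, false, false, false, false, true, false, false, false, false, true,
  false, true]),
  ([false, false, false, false, false, true, false, false, true, true, false, false, true, true, false, false, true,
  true, false, false, true, false, false, false, false, false], [false, true, true, false, false, false, false,
  false, false, false, false, true, true, true, true, false, false, false, false, false, false, false, false, true,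
  true, false]),
  ([false, false, false, false, true, false, false, true, false, false, true, false, true, true, false, true, false,
  false, true, false, false, true, false, false, false, false], [true, false, false, true, false, false, true,
  false, false, false, false, false, true, true, false, false, false, false, false, true, false, false, true, false,
  false, true]),
  ([false, false, false, false, true, false, true, false, false, false, false, true, true, true, true, false, false,
  false, false, true, false, true, false, false, false, false], [true, false, false, false, true, true, false,
  false, false, false, false, false, true, true, false, false, false, false, false, false, true, true, false, false,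
  false, true]),
  ([false, false, false, true, false, false, false, true, false, true, false, false, true, true, false, false, true,
  false, true, false, false, false, true, false, false, false], [false, true, false, true, false, false, false,
  false, false, false, true, false, true, true, false, true, false, false, false, false, false, false, true, false,
  true, false]),
  ([false, false, false, true, false, true, false, false, false, false, false, true, true, true, true, false, false,
  false, false, false, true, false, true, false, false, false], [false, true, false, false, true, false, false,
  false, false, true, false, false, true, true, false, false, true, false, false, false, false, true, false, false,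
  true, false]),
  ([false, false, true, false, false, false, true, false, false, true, false, false, true, true, false, false, true,
  false, false, true, false, false, false, true, false, false], [false, false, true, false, false, true, false,
  false, false, false, true, false, true, true, false, true, false, false, false, false, true, false, false, true,
  false, false]),
  ([false, false, true, false, false, true, false, false, false, false, true, false, true, true, false, true, false,
  false, false, false, true, false, false, true, false, false], [false, false, true, false, false, false, true,
  false, false, true, false, false, true, true, false, false, true, false, false, true, false, false, false, true,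
  false, false]),
  ([false, true, false, false, true, false, false, false, false, true, false, false, true, true, false, false, true,
  false, false, false, false, true, false, false, true, false], [false, false, false, true, false, true, false,
  false, false, false, false, true, true, true, true, false, false, false, false, false, true, false, true, false,
  false, false]),
  ([false, true, false, true, false, false, false, false, false, false, true, false, true, true, false, true, false,
  false, false, false, false, false, true, false, true, false], [false, false, false, true, false, false, false,
  true, false, true, false, false, true, true, false, false, true, false, true, false, false, false, true, false,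
  false, false]),
  ([false, true, true, false, false, false, false, false, false, false, false, true, true, true, true, false, false,
  false, false, false, false, false, false, true, true, false], [false, false, false, false, false, true, false,
  false, true, true, false, false, true, true, false, false, true, true, false, false, true, false, false, false,
  false, false]),
  ([true, false, false, false, true, true, false, false, false, false, false, false, true, true, false, false, false,
  false, false, false, true, true, false, false, false, true], [false, false, false, false, true, false, true,
  false, false, false, false, true, true, true, true, false, false, false, false, true, false, true, false, false,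
  false, false]),
  ([true, false, false, true, false, false, true, false, false, false, false, false, true, true, false, false, false,
  false, false, true, false, false, true, false, false, true], [false, false, false, false, true, false, false,
  true, false, false, true, false, true, true, false, true, false, false, true, false, false, true, false, false,
  false, false]),
  ([true, false, true, false, false, false, false, true, false, false, false, false, true, true, false, false, false,
  false, true, false, false, false, false, true, false, true], [false, false, false, false, false, false, true,
  false, true, false, true, false, true, true, false, true, false, true, false, true, false, false, false, false,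
  false, false]),
  ([true, true, false, false, false, false, false, false, true, false, false, false, true, true, false, false, false,
  true, false, false, false, false, false, false, true, true], [false, false, false, false, false, false, false,
  true, true, false, false, true, true, true, true, false, false, true, true, false, false, false, false, false,
  false, false])]

/-- the patterns modulo 5 -/
def B5 : List (List Bool × List Bool) := [
  ([false, false, false, false, false, false, false, false, false, false, true, true, true, true, true, true, false,
  false, false, false, false, false, false, false, false, false], [false, false, false, false, false, false, false,
  false, false, false, true, true, true, true, true, true, false, false, false, false, false, false, false, false,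
  false, false]),
  ([false, false, false, false, false, false, false, false, false, true, false, true, true, true, true, false, true,
  false, false, false, false, false, false, false, false, false], [false, false, false, false, false, false, true,
  true, false, false, false, false, true, true, false, false, false, false, true, true, false, false, false, false,
  false, false]),
  ([false, false, false, false, false, false, false, false, false, true, true, false, true, true, false, true, true,
  false, false, false, false, false, false, false, false, false], [false, false, false, false, true, false, false,
  false, true, false, false, false, true, true, false, false, false, true, false, false, false, true, false, false,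
  false, false]),
  ([false, false, false, false, false, false, true, true, false, false, false, false, true, true, false, false, false,
  false, true, true, false, false, false, false, false, false], [false, false, false, false, false, false, false,
  false, false, true, false, true, true, true, true, false, true, false, false, false, false, false, false, false,
  false, false]),
  ([false, false, false, false, false, true, false, true, false, false, false, false, true, true, false, false, false,
  false, true, false, true, false, false, false, false, false], [false, false, false, false, false, true, false,
  true, false, false, false, false, true, true, false, false, false, false, true, false, true, false, false, false,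
  false, false]),
  ([false, false, false, false, false, true, true, false, false, false, false, false, true, true, false, false, false,
  false, false, true, true, false, false, false, false, false], [false, false, false, true, false, false, false,
  false, true, false, false, false, true, true, false, false, false, true, false, false, false, false, true, false,
  false, false]),
  ([false, false, false, false, true, false, false, false, true, false, false, false, true, true, false, false, false,
  true, false, false, false, true, false, false, false, false], [false, false, false, false, false, false, false,
  false, false, true, true, false, true, true, false, true, true, false, false, false, false, false, false, false,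
  false, false]),
  ([false, false, false, true, false, false, false, false, true, false, false, false, true, true, false, false, false,
  true, false, false, false, false, true, false, false, false], [false, false, false, false, false, true, true,
  false, false, false, false, false, true, true, false, false, false, false, false, true, true, false, false, false,
  false, false]),
  ([false, false, false, true, true, false, false, false, false, false, false, false, true, true, false, false, false,
  false, false, false, false, true, true, false, false, false], [false, false, true, false, false, false, false,
  false, true, false, false, false, true, true, false, false, false, true, false, false, false, false, false, true,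
  false, false]),
  ([false, false, true, false, false, false, false, false, true, false, false, false, true, true, false, false, false,
  true, false, false, false, false, false, true, false, false], [false, false, false, true, true, false, false,
  false, false, false, false, false, true, true, false, false, false, false, false, false, false, true, true, false,
  false, false]),
  ([false, false, true, false, true, false, false, false, false, false, false, false, true, true, false, false, false,
  false, false, false, false, true, false, true, false, false], [false, true, false, false, false, false, false,
  true, false, false, false, false, true, true, false, false, false, false, true, false, false, false, false, false,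
  true, false]),
  ([false, false, true, true, false, false, false, false, false, false, false, false, true, true, false, false, false,
  false, false, false, false, false, true, true, false, false], [true, false, false, false, false, false, false,
  false, false, false, false, true, true, true, true, false, false, false, false, false, false, false, false, false,
  false, true]),
  ([false, true, false, false, false, false, false, true, false, false, false, false, true, true, false, false, false,
  false, true, false, false, false, false, false, true, false], [false, false, true, false, true, false, false,
  false, false, false, false, false, true, true, false, false, false, false, false, false, false, true, false, true,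
  false, false]),
  ([false, true, false, false, false, false, true, false, false, false, false, false, true, true, false, false, false,
  false, false, true, false, false, false, false, true, false], [false, true, false, false, false, false, true,
  false, false, false, false, false, true, true, false, false, false, false, false, true, false, false, false,
  false, true, false]),
  ([false, true, false, false, false, true, false, false, false, false, false, false, true, true, false, false, false,
  false, false, false, true, false, false, false, true, false], [true, false, false, false, false, false, false,
  false, false, false, true, false, true, true, false, true, false, false, false, false, false, false, false, false,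
  false, true]),
  ([true, false, false, false, false, false, false, false, false, false, false, true, true, true, true, false, false,
  false, false, false, false, false, false, false, false, true], [false, false, true, true, false, false, false,
  false, false, false, false, false, true, true, false, false, false, false, false, false, false, false, true, true,
  false, false]),
  ([true, false, false, false, false, false, false, false, false, false, true, false, true, true, false, true, false,
  false, false, false, false, false, false, false, false, true], [false, true, false, false, false, true, false,
  false, false, false, false, false, true, true, false, false, false, false, false, false, true, false, false,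
  false, true, false]),
  ([true, false, false, false, false, false, false, false, false, true, false, false, true, true, false, false, true,
  false, false, false, false, false, false, false, false, true], [true, false, false, false, false, false, false,
  false, false, true, false, false, true, true, false, false, true, false, false, false, false, false, false, false,
  false, true])]

/-- the test -/
def tst (n : ℕ) (C : List (List Bool × List Bool)) (a b c d : ℕ) : Bool :=
  decide (a = 0 ∧ b = 0 ∧ c = 0 ∧ d = 0) || (decide (ct (zs SL n a b c d) ≠ ct (zs LL n a b c d)) ||
    decide ((zs SL n a b c d, zs LL n a b c d) ∈ C))

theorem tst_all3 : ((List.range 3).all fun a => (List.range 3).all fun b => (List.range 3).all fun c =>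
    (List.range 3).all fun d => tst 3 A3 a b c d) = true := by
  decide +kernel

theorem tst_all5 : ((List.range 5).all fun a => (List.range 5).all fun b => (List.range 5).all fun c =>
    (List.range 5).all fun d => tst 5 B5 a b c d) = true := by
  decide +kernel

theorem compl3 {a b c d : ℕ} (ha : a < 3) (hb : b < 3) (hc : c < 3) (hd : d < 3) : (a = 0 ∧ b = 0 ∧ c = 0 ∧ d = 0) ∨
    ct (zs SL 3 a b c d) ≠ ct (zs LL 3 a b c d) ∨ (zs SL 3 a b c d, zs LL 3 a b c d) ∈ A3 := by
  have h := tst_all3
  simp only [List.all_eq_true, List.mem_range] at h
  have h1 := h a ha b hb c hc d hd
  unfold tst at h1
  rw [Bool.or_eq_true, Bool.or_eq_true, decide_eq_true_eq, decide_eq_true_eq, decide_eq_true_eq] at h1
  exact h1

theorem compl5 {a b c d : ℕ} (ha : a < 5) (hb : b < 5) (hc : c < 5) (hd : d < 5) : (a = 0 ∧ b = 0 ∧ c = 0 ∧ d = 0) ∨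
    ct (zs SL 5 a b c d) ≠ ct (zs LL 5 a b c d) ∨ (zs SL 5 a b c d, zs LL 5 a b c d) ∈ B5 := by
  have h := tst_all5
  simp only [List.all_eq_true, List.mem_range] at h
  have h1 := h a ha b hb c hc d hd
  unfold tst at h1
  rw [Bool.or_eq_true, Bool.or_eq_true, decide_eq_true_eq, decide_eq_true_eq, decide_eq_true_eq] at h1
  exact h1

theorem pairs : ∀ p ∈ A3, ∀ q ∈ B5, ct (both p.1 q.1) ≠ ct (both p.2 q.2) := by
  decide +kernel

theorem zs_mod (M : List (ℕ × ℕ × ℕ × ℕ)) (n a b c d : ℕ) : zs M n a b c d = zs M n (a % n) (b % n) (c % n) (d % n) := by
  unfold zs
  refine List.map_congr_left fun v _ => ?_
  have h : ev v a b c d % n = ev v (a % n) (b % n) (c % n) (d % n) % n := by
    unfold ev
    simp only [Nat.add_mod, Nat.mul_mod, Nat.mod_mod]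
  rw [h]

theorem zs_fifteen (M : List (ℕ × ℕ × ℕ × ℕ)) (a b c d : ℕ) :
    zs M 15 a b c d = both (zs M 3 a b c d) (zs M 5 a b c d) := by
  unfold zs both
  rw [List.zipWith_map, List.zipWith_self]
  refine List.map_congr_left fun v _ => ?_
  generalize ev v a b c d = x
  rw [Bool.eq_iff_iff, Bool.and_eq_true, beq_iff_eq, beq_iff_eq, beq_iff_eq]
  omega

/-- **The finite check.** -/
theorem fin_check {a b c d : ℕ} (h3 : ct (zs SL 3 a b c d) = ct (zs LL 3 a b c d))
    (h5 : ct (zs SL 5 a b c d) = ct (zs LL 5 a b c d)) (h15 : ct (zs SL 15 a b c d) = ct (zs LL 15 a b c d)) :
    (3 ∣ a ∧ 3 ∣ b ∧ 3 ∣ c ∧ 3 ∣ d) ∨ (5 ∣ a ∧ 5 ∣ b ∧ 5 ∣ c ∧ 5 ∣ d) := by
  have m3 : ∀ x : ℕ, x % 3 < 3 := fun x => Nat.mod_lt _ (by norm_num)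
  have m5 : ∀ x : ℕ, x % 5 < 5 := fun x => Nat.mod_lt _ (by norm_num)
  have g3 := compl3 (m3 a) (m3 b) (m3 c) (m3 d)
  have g5 := compl5 (m5 a) (m5 b) (m5 c) (m5 d)
  rw [← zs_mod, ← zs_mod] at g3 g5
  rcases g3 with g | g | g3
  · left; omega
  · exact absurd h3 g
  rcases g5 with g | g | g5
  · right; omega
  · exact absurd h5 g
  have h := pairs _ g3 _ g5
  rw [zs_fifteen, zs_fifteen] at h15
  exact absurd h15 h

/-- counting in a list -/
theorem ct_map {α : Type*} (l : List α) (f : α → Bool) :
    ct (l.map f) = (Finset.univ.filter (fun i : Fin l.length => f (l.get i) = true)).card := by
  unfold ct
  induction l with
  | nil => rfl
  | cons x l ih =>
    rw [List.map_cons, List.count_cons, ih]
    have h := Fin.card_filter_univ_succ' (fun i : Fin (l.length + 1) => f ((x :: l).get i) = true)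
    rw [add_comm]
    refine Eq.trans ?_ h.symm
    congr 1
    cases h0 : f x <;> simp [h0]

end Cfsg.Agent.H343.PG.Ff
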