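import Cfsg.Agent.H343.PG.RowTw
import Cfsg.Agent.H343.PG.E8Ord
import Cfsg.Agent.H343.PG.TwF4Fifteen
import Cfsg.Agent.H200.PG.Ident
import Cfsg.Agent.S0204
import Cfsg.Agent.S1068

/-!
# The identification for S3635, `L = ²F₄(q)` (helper343)

* `ident` : `Ident L n₁ n₂` for `L ≃* ²F₄(2 ^ (2 m + 1))`, `n₁`, `n₂` the two factors of `q⁴ - q² + 1`;
* `card_facts` : `2` divides `|L|`, `n₁` and `n₂` are coprime.
-/

set_option autoImplicit false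

namespace Cfsg.Agent.H343.PG

open Cfsg Cfsg.Lie Cfsg.Agent.H415.PG3

universe u v

theorem even_of_simple {S : Type u} [Group S] [Finite S] [IsSimpleGroup S] (hna : ¬ IsMulCommutative S) :
    2 ∣ Nat.card S := by
  obtain ⟨E, hE⟩ := S0204.result (fun hc : IsCyclic S => hna inferInstance)
  have h4 : Nat.card E = 4 := hE.card_four
  exact (show 2 ∣ 4 by norm_num).trans (h4 ▸ Subgroup.card_subgroup_dvd_card E)

theorem q_eq (m : ℕ) : 2 ^ (2 * m + 1) = 2 * (2 ^ m) ^ 2 := by ring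

/-- the primes of `|²F₄(q)|` -/
theorem pi_tf4 {K : Type*} [Field K] [Fintype K] {m : ℕ} (hK : Fintype.card K = 2 ^ (2 * m + 1)) {r : ℕ} (hr : r.Prime)
    (h : r ∣ Nat.card ↥(twistedF4 K (2 ^ m))) : r = 2 ∨ r ∣ (2 * (2 ^ m) ^ 2) ^ 12 - 1 := by
  rw [S1068.result hK, q_eq] at h
  set q := 2 * (2 ^ m) ^ 2 with hq
  have hq1 : 1 ≤ q := Nat.one_le_iff_ne_zero.2 (by positivity)
  have h12 : q ^ 12 - 1 = (q - 1) * ((q ^ 11 + q ^ 10 + q ^ 9 + q ^ 8 + q ^ 7 + q ^ 6 + q ^ 5 + q ^ 4 + q ^ 3 + q ^ 2 + q + 1)) := by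
    have h1 : 1 ≤ q ^ 12 := Nat.one_le_pow _ _ hq1
    zify [h1, hq1]
    ring
  have h4 : q ^ 12 - 1 = (q ^ 4 - 1) * (q ^ 8 + q ^ 4 + 1) := by
    have h1 : 1 ≤ q ^ 12 := Nat.one_le_pow _ _ hq1
    have h2 : 1 ≤ q ^ 4 := Nat.one_le_pow _ _ hq1
    zify [h1, h2]
    ring
  have h6 : q ^ 12 - 1 = (q ^ 6 + 1) * (q ^ 6 - 1) := by
    have h1 : 1 ≤ q ^ 12 := Nat.one_le_pow _ _ hq1
    have h2 : 1 ≤ q ^ 6 := Nat.one_le_pow _ _ hq1
    zify [h1, h2]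
    ring
  have h3 : q ^ 12 - 1 = (q ^ 3 + 1) * ((q ^ 3 - 1) * (q ^ 6 + 1)) := by
    have h1 : 1 ≤ q ^ 12 := Nat.one_le_pow _ _ hq1
    have h2 : 1 ≤ q ^ 3 := Nat.one_le_pow _ _ hq1
    zify [h1, h2]
    ring
  rcases (hr.dvd_mul).1 h with h | h
  · rcases (hr.dvd_mul).1 h with h | h
    · rcases (hr.dvd_mul).1 h with h | h
      · rcases (hr.dvd_mul).1 h with h | h
        · left
          have h5 := hr.dvd_of_dvd_pow h
          rw [hq] at h5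
          rcases (hr.dvd_mul).1 h5 with h5 | h5
          · exact (Nat.prime_dvd_prime_iff_eq hr Nat.prime_two).1 h5
          · exact (Nat.prime_dvd_prime_iff_eq hr Nat.prime_two).1 (hr.dvd_of_dvd_pow (hr.dvd_of_dvd_pow h5))
        · right; rw [h12]; exact h.mul_right _
      · right; rw [h3]; exact h.mul_right _
    · right; rw [h4]; exact h.mul_right _
  · right; rw [h6]; exact h.mul_right _

theorem mul_eq {m n₁ n₂ : ℕ} (e1 : (n₁ : ℤ) = fN 1 (2 ^ m)) (e2 : (n₂ : ℤ) = fN (-1) (2 ^ m)) :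
    n₁ * n₂ = (2 ^ (2 * m + 1)) ^ 4 - (2 ^ (2 * m + 1)) ^ 2 + 1 := by
  rw [q_eq]
  have h := fN_mul (2 ^ m)
  rw [← e1, ← e2] at h
  have h1 : (2 * (2 ^ m) ^ 2) ^ 2 ≤ (2 * (2 ^ m) ^ 2) ^ 4 := Nat.pow_le_pow_right (by positivity) (by norm_num)
  zify [h1]
  exact h

theorem coprime_of {m n₁ n₂ : ℕ} (e1 : (n₁ : ℤ) = fN 1 (2 ^ m)) (e2 : (n₂ : ℤ) = fN (-1) (2 ^ m)) :
    Nat.Coprime n₁ n₂ := by
  refine Nat.coprime_of_dvd fun r hr h1 h2 => ?_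
  exact not_both hr (d := 1) (b := 2 ^ m) (Or.inl rfl) (by rw [← e1]; exact_mod_cast h1) (by rw [← e2]; exact_mod_cast h2)

/-- **The identification for `²F₄(q)`.** -/
theorem ident (hcl : Cfsg.Agent.H415.PG3.Cl.{u}) {L : Type v} [Group L] [Finite L] {K : Type} [Field K] [Fintype K] {m : ℕ}
    (hm : 1 ≤ m) (hK : Fintype.card K = 2 ^ (2 * m + 1)) (e : L ≃* ↥(twistedF4 K (2 ^ m))) {n₁ n₂ : ℕ}
    (e1 : (n₁ : ℤ) = fN 1 (2 ^ m)) (e2 : (n₂ : ℤ) = fN (-1) (2 ^ m)) : Ident.{u, v} L n₁ n₂ := by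
  intro S _ _ hs hna hyp
  have h15 : ¬ ∃ x : S, orderOf x = 15 := by
    intro h
    obtain ⟨y, hy⟩ := hyp.adj 3 5 Nat.prime_three Nat.prime_five (by norm_num) h
    exact TwF4Fifteen.not_exists_fifteen hK ⟨e y, by rw [MulEquiv.orderOf_eq]; exact hy⟩
  have h0 : TF S m n₁ n₂ :=
    { hm := hm
      e1 := e1
      e2 := e2
      i1 := hyp.i₁
      i2 := hyp.i₂
      pi := fun r hr hd => pi_tf4 hK hr (by
        rw [← Nat.card_congr e.toEquiv]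
        exact hyp.pi r hr hd)
      e15 := h15 }
  have hIs : H426.LieFam.Fam.Is 2 (2 * m + 1) L .tf4 := ⟨rfl, m, hm, rfl, K, _, _, hK, ⟨e⟩⟩
  rcases h0.cases (even_of_simple hna) hna (hcl S) with h | h
  · exfalso
    obtain ⟨F, _, _, ⟨e8⟩⟩ := h
    obtain ⟨x, hx⟩ := E8Ord.exists_fifteen F
    exact h15 ⟨e8.symm x, by rw [MulEquiv.orderOf_eq]; exact hx⟩
  · have hl : IsLieTypeChar 2 S := by
      unfold IsLieTypeChar
      simp only [true_and]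
      tauto
    exact H200.PG.iso_tf4 (by omega) hIs hl hyp.pi hyp.i₁ hyp.i₂ (mul_eq e1 e2) (coprime_of e1 e2)

end Cfsg.Agent.H343.PG
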