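import Cfsg.Agent.H343.PG.Ident
import Cfsg.Agent.H129.CycCardF

/-!
# The two factors of `q⁴ - q² + 1` are isolated in `²F₄(q)` (helper343, for S3635)

* `card_cent` : centralizers of elements of prime order in a group with an exact torus;
* `ip₁`, `ip₂` : `Ip L n₁`, `Ip L n₂`; `clq₁`, `clq₂` : the primes of `n_i` are pairwise adjacent; `two_dvd`.
-/

set_option autoImplicit false
set_option linter.unusedSectionVars false
set_option linter.unusedVariables false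

namespace Cfsg.Agent.H343.PG

open Cfsg Cfsg.Lie Cfsg.Agent.H129.CycT Cfsg.Agent.H415.PG3

universe u v

section Gen

variable {G : Type*} [Group G] [Finite G]

/-- **Centralizers.** -/
theorem card_cent {n : ℕ} (h : CycExact G n) {r : ℕ} (hr : r.Prime) (hrn : r ∣ n) {x : G} (hx : orderOf x = r) :
    Nat.card ↥(Subgroup.centralizer ({x} : Set G)) = n := by
  obtain ⟨T, -, hT, hcent⟩ := h
  have := Fact.mk hr
  obtain ⟨y, hy⟩ := exists_prime_orderOf_dvd_card' (G := T) r (hT ▸ hrn)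
  have hy1 : (y : G) ≠ 1 := by
    intro h1
    rw [← Subgroup.orderOf_coe, h1, orderOf_one] at hy
    exact hr.one_lt.ne hy
  have hyp : IsPGroup r (Subgroup.zpowers (y : G)) := IsPGroup.of_card (n := 1) (by
    rw [Nat.card_zpowers, Subgroup.orderOf_coe, hy, pow_one])
  obtain ⟨P, hP⟩ := hyp.exists_le_sylow
  have hyP : (y : G) ∈ (P : Subgroup G) := hP (Subgroup.mem_zpowers _)
  have hPn : Nontrivial (P : Subgroup G) := ⟨⟨⟨y, hyP⟩, 1, fun h => hy1 (congrArg Subtype.val h)⟩⟩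
  obtain ⟨z, hz⟩ : ∃ z : Subgroup.center (P : Subgroup G), z ≠ 1 := by
    have : Nontrivial (Subgroup.center (P : Subgroup G)) := P.2.center_nontrivial
    exact exists_ne 1
  have hzc : ∀ w ∈ (P : Subgroup G), w * ((z : (P : Subgroup G)) : G) = ((z : (P : Subgroup G)) : G) * w := fun w hw =>
    congrArg Subtype.val (Subgroup.mem_center_iff.1 z.2 ⟨w, hw⟩)
  have hz1 : ((z : (P : Subgroup G)) : G) ≠ 1 := fun h => hz (Subtype.ext (Subtype.ext h))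
  have hzT : ((z : (P : Subgroup G)) : G) ∈ T := by
    rw [← hcent y y.2 hy1, Subgroup.mem_centralizer_singleton_iff]
    exact (hzc y hyP).symm
  have hPT : (P : Subgroup G) ≤ T := by
    rw [← hcent _ hzT hz1]
    intro w hw
    rw [Subgroup.mem_centralizer_singleton_iff]
    exact hzc w hw
  -- `x` is conjugate into `P`
  have hxp : IsPGroup r (Subgroup.zpowers x) := IsPGroup.of_card (n := 1) (by rw [Nat.card_zpowers, hx, pow_one])
  obtain ⟨Q, hQ⟩ := hxp.exists_le_sylow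
  obtain ⟨g, hg⟩ := MulAction.exists_smul_eq G P Q
  have hxQ : x ∈ (Q : Subgroup G) := hQ (Subgroup.mem_zpowers _)
  have hxP : g⁻¹ * x * g ∈ (P : Subgroup G) := by
    rw [← hg, Sylow.coe_subgroup_smul, Subgroup.mem_pointwise_smul_iff_inv_smul_mem] at hxQ
    have e : (MulAut.conj g)⁻¹ • x = g⁻¹ * x * g := by
      rw [← map_inv]
      show g⁻¹ * x * (g⁻¹)⁻¹ = _
      rw [inv_inv]
    rwa [e] at hxQ
  have hne : g⁻¹ * x * g ≠ 1 := by
    intro h1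
    have h2 : x = 1 := by
      have : x = g * (g⁻¹ * x * g) * g⁻¹ := by group
      rw [this, h1]
      group
    rw [h2, orderOf_one] at hx
    exact hr.one_lt.ne hx
  have h1 := hcent _ (hPT hxP) hne
  rw [← hT, ← h1]
  refine Nat.card_congr ((MulAut.conj g⁻¹).toEquiv.subtypeEquiv fun c => ?_)
  show c ∈ Subgroup.centralizer ({x} : Set G) ↔ g⁻¹ * c * (g⁻¹)⁻¹ ∈ Subgroup.centralizer ({g⁻¹ * x * g} : Set G)
  rw [Subgroup.mem_centralizer_singleton_iff, Subgroup.mem_centralizer_singleton_iff, inv_inv]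
  have e1 : g⁻¹ * c * g * (g⁻¹ * x * g) = g⁻¹ * (c * x) * g := by group
  have e2 : g⁻¹ * x * g * (g⁻¹ * c * g) = g⁻¹ * (x * c) * g := by group
  rw [e1, e2]
  constructor
  · intro h
    rw [h]
  · intro h
    exact mul_left_cancel (mul_right_cancel h)

theorem dvd_of_exact {n : ℕ} (h : CycExact G n) : n ∣ Nat.card G := by
  obtain ⟨T, -, hT, -⟩ := h
  exact hT ▸ Subgroup.card_subgroup_dvd_card T

/-- **Isolation.** -/
theorem ip_of_exact {n : ℕ} (h : CycExact G n) (h2 : ¬ 2 ∣ n) (h1 : 1 < n) : Ip G n where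
  dvd := fun _ _ hd => hd.trans (dvd_of_exact h)
  iso := fun r s hr hs hrn hsn => by
    rintro ⟨g, hg⟩
    have hx : orderOf (g ^ s) = r := by
      rw [orderOf_pow' g hs.ne_zero, hg, Nat.gcd_eq_right (Dvd.intro_left r rfl)]
      exact Nat.mul_div_cancel _ hs.pos
    have h1 := card_cent h hr hrn hx
    have h2 : g ∈ Subgroup.centralizer ({g ^ s} : Set G) := by
      rw [Subgroup.mem_centralizer_singleton_iff]
      exact (Commute.pow_self g s).eq.symm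
    have h3 : orderOf (⟨g, h2⟩ : ↥(Subgroup.centralizer ({g ^ s} : Set G))) ∣
        Nat.card ↥(Subgroup.centralizer ({g ^ s} : Set G)) := orderOf_dvd_natCard _
    rw [← Subgroup.orderOf_coe, h1] at h3
    simp only at h3
    rw [hg] at h3
    exact hsn ((Dvd.intro_left r rfl).trans h3)
  not_two_dvd := h2
  one_lt := h1

/-- **Adjacency inside.** -/
theorem clq_of_exact {n : ℕ} (h : CycExact G n) : ∀ r s : ℕ, r.Prime → s.Prime → r ≠ s → r ∣ n → s ∣ n →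
    ∃ x : G, orderOf x = r * s := by
  obtain ⟨T, hc, hT, -⟩ := h
  intro r s hr hs hrs hrn hsn
  have hcop : Nat.Coprime r s := (Nat.coprime_primes hr hs).2 hrs
  have hd : r * s ∣ Nat.card T := hT ▸ hcop.mul_dvd_of_dvd_of_dvd hrn hsn
  obtain ⟨x, hx⟩ := hc.exists_ofOrder_eq_natCard (α := T)
  obtain ⟨c, hc'⟩ := hd
  refine ⟨(x : G) ^ c, ?_⟩
  have hc0 : c ≠ 0 := by
    rintro rfl
    rw [mul_zero] at hc'
    exact Nat.card_pos.ne' hc'
  rw [orderOf_pow' _ hc0, Subgroup.orderOf_coe, hx, hc', Nat.gcd_eq_right (Dvd.intro_left _ rfl),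
    Nat.mul_div_cancel _ (Nat.pos_of_ne_zero hc0)]

end Gen

section

variable {K : Type u} [Field K] [Fintype K] {m n₁ n₂ : ℕ}

theorem exact₁ (hK : Fintype.card K = 2 ^ (2 * m + 1)) (e1 : (n₁ : ℤ) = fN 1 (2 ^ m)) :
    CycExact ↥(twistedF4 K (2 ^ m)) n₁ :=
  Cfsg.Agent.H129.CycCard.exact_tF4_plus hK (by rw [e1]; unfold fN; ring)

theorem exact₂ (hK : Fintype.card K = 2 ^ (2 * m + 1)) (e2 : (n₂ : ℤ) = fN (-1) (2 ^ m)) :
    CycExact ↥(twistedF4 K (2 ^ m)) n₂ :=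
  Cfsg.Agent.H129.CycCard.exact_tF4_minus hK (by rw [e2]; unfold fN; ring)

theorem odd_of {n : ℕ} {d : ℤ} (e : (n : ℤ) = fN d (2 ^ m)) : ¬ 2 ∣ n := by
  intro h
  have h1 : (2 : ℤ) ∣ fN d (2 ^ m) := e ▸ (by exact_mod_cast h)
  have h2 : fN d (2 ^ m) = 2 * (2 * (2 ^ m) ^ 4 + 2 * d * (2 ^ m) ^ 3 + (2 ^ m) ^ 2 + d * 2 ^ m) + 1 := by
    unfold fN; ring
  omega

theorem one_lt₁ (hm : 1 ≤ m) (e1 : (n₁ : ℤ) = fN 1 (2 ^ m)) : 1 < n₁ := by
  have h : (1 : ℤ) < n₁ := by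
    rw [e1]
    unfold fN
    have : (0 : ℤ) < 2 ^ m := by positivity
    nlinarith [pow_pos this 2, pow_pos this 3, pow_pos this 4]
  exact_mod_cast h

theorem one_lt₂ (hm : 1 ≤ m) (e2 : (n₂ : ℤ) = fN (-1) (2 ^ m)) : 1 < n₂ := by
  have h : (1 : ℤ) < n₂ := by
    rw [e2]
    have h2 : (2 : ℤ) ≤ 2 ^ m := by
      calc (2 : ℤ) = 2 ^ 1 := by norm_num
        _ ≤ 2 ^ m := pow_le_pow_right₀ (by norm_num) hm
    have h3 := fN_sub_one (-1) (2 ^ m)
    have h4 : 0 < 2 * (2 ^ m : ℤ) * (2 ^ m + -1) * (2 * (2 ^ m) ^ 2 + 1) := by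
      have : (0 : ℤ) < 2 ^ m + -1 := by linarith
      positivity
    linarith
  exact_mod_cast h

variable {L : Type v} [Group L]

/-- **`n₁` is isolated.** -/
theorem ip₁ (hm : 1 ≤ m) (hK : Fintype.card K = 2 ^ (2 * m + 1)) (e : L ≃* ↥(twistedF4 K (2 ^ m)))
    (e1 : (n₁ : ℤ) = fN 1 (2 ^ m)) : Ip L n₁ :=
  (ip_of_exact (exact₁ hK e1) (odd_of e1) (one_lt₁ hm e1)).congr e.symm

/-- **`n₂` is isolated.** -/
theorem ip₂ (hm : 1 ≤ m) (hK : Fintype.card K = 2 ^ (2 * m + 1)) (e : L ≃* ↥(twistedF4 K (2 ^ m)))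
    (e2 : (n₂ : ℤ) = fN (-1) (2 ^ m)) : Ip L n₂ :=
  (ip_of_exact (exact₂ hK e2) (odd_of e2) (one_lt₂ hm e2)).congr e.symm

/-- the primes of `n₁` are pairwise adjacent -/
theorem clq₁ (hK : Fintype.card K = 2 ^ (2 * m + 1)) (e : L ≃* ↥(twistedF4 K (2 ^ m)))
    (e1 : (n₁ : ℤ) = fN 1 (2 ^ m)) : ∀ r s : ℕ, r.Prime → s.Prime → r ≠ s → r ∣ n₁ → s ∣ n₁ →
    ∃ x : L, orderOf x = r * s := by
  intro r s hr hs hrs h1 h2
  obtain ⟨x, hx⟩ := clq_of_exact (exact₁ hK e1) r s hr hs hrs h1 h2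
  exact ⟨e.symm x, by rw [MulEquiv.orderOf_eq, hx]⟩

/-- the primes of `n₂` are pairwise adjacent -/
theorem clq₂ (hK : Fintype.card K = 2 ^ (2 * m + 1)) (e : L ≃* ↥(twistedF4 K (2 ^ m)))
    (e2 : (n₂ : ℤ) = fN (-1) (2 ^ m)) : ∀ r s : ℕ, r.Prime → s.Prime → r ≠ s → r ∣ n₂ → s ∣ n₂ →
    ∃ x : L, orderOf x = r * s := by
  intro r s hr hs hrs h1 h2
  obtain ⟨x, hx⟩ := clq_of_exact (exact₂ hK e2) r s hr hs hrs h1 h2
  exact ⟨e.symm x, by rw [MulEquiv.orderOf_eq, hx]⟩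

theorem two_dvd (hK : Fintype.card K = 2 ^ (2 * m + 1)) (e : L ≃* ↥(twistedF4 K (2 ^ m))) : 2 ∣ Nat.card L := by
  rw [Nat.card_congr e.toEquiv, S1068.result hK]
  have h : 2 ∣ (2 ^ (2 * m + 1)) ^ 12 := dvd_pow (dvd_pow_self 2 (by omega)) (by norm_num)
  exact (((h.mul_right _).mul_right _).mul_right _).mul_right _

/-- the numbers exist -/
theorem exists_nums (m : ℕ) : ∃ n₁ n₂ : ℕ, (n₁ : ℤ) = fN 1 (2 ^ m) ∧ (n₂ : ℤ) = fN (-1) (2 ^ m) := by
  have h1 : (0 : ℤ) ≤ fN 1 (2 ^ m) := by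
    unfold fN
    have : (0 : ℤ) < 2 ^ m := by positivity
    positivity
  have h2 : (0 : ℤ) ≤ fN (-1) (2 ^ m) := by
    have h3 := fN_sub_one (-1) (2 ^ m)
    have h5 : (1 : ℤ) ≤ 2 ^ m := one_le_pow₀ (by norm_num)
    have h4 : 0 ≤ 2 * (2 ^ m : ℤ) * (2 ^ m + -1) * (2 * (2 ^ m) ^ 2 + 1) := by
      have : (0 : ℤ) ≤ 2 ^ m + -1 := by linarith
      positivity
    linarith
  exact ⟨(fN 1 (2 ^ m)).toNat, (fN (-1) (2 ^ m)).toNat, Int.toNat_of_nonneg h1, Int.toNat_of_nonneg h2⟩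

end

end Cfsg.Agent.H343.PG
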