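import Cfsg.Agent.H343.PG.Num

/-!
# `PSL₂(p ^ f)` does not have the two isolated numbers of `²F₄(q)`: the arithmetic (helper343, for S3635)
-/

set_option autoImplicit false

namespace Cfsg.Agent.H343.PG

/-- the possible `m` -/
theorem small_m {m : ℕ} (hm : 1 ≤ m) {d : ℤ} (hd : d = 1 ∨ d = -1)
    (h1 : ∀ r : ℕ, r.Prime → (r : ℤ) ∣ 2 ^ m + d → r ∣ 2 ^ 12 - 1)
    (h13 : ¬ (13 : ℤ) ∣ 2 ^ m + d) (h15 : ¬ (15 : ℤ) ∣ 2 ^ m + d) :
    m = 1 ∨ m = 2 ∨ m = 3 ∨ (m = 6 ∧ d = -1) := by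
  rcases Nat.lt_or_ge m 4 with h4 | h4
  · omega
  rcases hd with rfl | rfl
  · exfalso
    obtain ⟨r, hr, hr1, -, -⟩ := Cfsg.Agent.Lib.Zsigmondy.exists_primitive (a := 2) (n := 2 * m) le_rfl (by omega)
      (by omega) (by omega)
    have h2 : r ∣ 2 ^ (2 * m) - 1 := (hr1 _).2 dvd_rfl
    have h3 : ¬ r ∣ 2 ^ m - 1 := fun h => by
      have := Nat.le_of_dvd (by omega) ((hr1 _).1 h)
      omega
    have h5 : r ∣ 2 ^ m + 1 := by
      have e : 2 ^ (2 * m) - 1 = (2 ^ m + 1) * (2 ^ m - 1) := by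
        have := Nat.sq_sub_sq (2 ^ m) 1
        rw [one_pow, ← pow_mul, mul_comm m 2] at this
        exact this
      rw [e] at h2
      exact ((Nat.Prime.dvd_mul hr).1 h2).resolve_right h3
    have h6 := h1 r hr (by exact_mod_cast h5)
    have h7 : 2 * m ∣ 12 := (hr1 _).1 h6
    have h8 : m ∣ 6 := by
      obtain ⟨k, hk⟩ := h7
      exact ⟨k, by nlinarith⟩
    have h9 : m = 6 := by
      have := Nat.le_of_dvd (by norm_num) h8
      interval_cases m <;> omega
    rw [h9] at h13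
    exact h13 (by norm_num)
  · rcases Nat.eq_or_lt_of_le (show 6 ≤ 6 from le_rfl) with - | h
    · by_cases h6 : m = 6
      · exact Or.inr (Or.inr (Or.inr ⟨h6, rfl⟩))
      exfalso
      obtain ⟨r, hr, hr1, -, -⟩ := Cfsg.Agent.Lib.Zsigmondy.exists_primitive (a := 2) (n := m) le_rfl (by omega)
        (by omega) (by omega)
      have h2 : r ∣ 2 ^ m - 1 := (hr1 _).2 dvd_rfl
      have h3 : (r : ℤ) ∣ 2 ^ m + -1 := by
        have h4 : ((2 ^ m - 1 : ℕ) : ℤ) = 2 ^ m + -1 := by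
          have : 1 ≤ 2 ^ m := Nat.one_le_two_pow
          push_cast [Nat.cast_sub this]
          ring
        rw [← h4]
        exact_mod_cast h2
      have h5 : m ∣ 12 := (hr1 _).1 (h1 r hr h3)
      have h7 : m = 4 ∨ m = 12 := by
        have := Nat.le_of_dvd (by norm_num) h5
        interval_cases m <;> omega
      rcases h7 with rfl | rfl
      · exact h15 (by norm_num)
      · exact h15 (by norm_num)
    · omega

/-- if `v - 1 = 4 k`, `k` odd, then `v` does not divide `p ^ f + 1` for `4 ∣ f` -/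
theorem not_four {v k p f : ℕ} (hv : v.Prime) (hk : v - 1 = 4 * k) (hko : Odd k) (h : v ∣ p ^ f + 1) (h4 : 4 ∣ f) :
    False := by
  have := Fact.mk hv
  obtain ⟨g, rfl⟩ := h4
  have h0 : ((p : ZMod v)) ^ (4 * g) + 1 = 0 := by
    have := (ZMod.natCast_eq_zero_iff (p ^ (4 * g) + 1) v).2 h
    push_cast at this
    exact this
  have hg : (p : ZMod v) ≠ 0 := by
    intro hz
    rw [hz] at h0
    rcases Nat.eq_zero_or_pos g with rfl | hg
    · rcases Nat.eq_zero_or_pos k with rfl | hk0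
      · simp at hko
      · have h2 : ((2 : ℕ) : ZMod v) = 0 := by
          push_cast
          linear_combination h0
        have h3 := Nat.le_of_dvd (by norm_num) ((ZMod.natCast_eq_zero_iff 2 v).1 h2)
        omega
    · rw [zero_pow (by omega)] at h0
      simp at h0
  have h1 : (p : ZMod v) ^ (v - 1) = 1 := ZMod.pow_card_sub_one_eq_one hg
  have h2 : ((p : ZMod v) ^ (4 * g)) ^ k = 1 := by
    rw [← pow_mul, show 4 * g * k = (4 * k) * g by ring, ← hk, pow_mul, h1, one_pow]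
  have h3 : (p : ZMod v) ^ (4 * g) = -1 := by linear_combination h0
  rw [h3, hko.neg_one_pow] at h2
  have h4 : ((2 : ℕ) : ZMod v) = 0 := by
    push_cast
    linear_combination -h2
  have h5 := Nat.le_of_dvd (by norm_num) ((ZMod.natCast_eq_zero_iff 2 v).1 h4)
  obtain ⟨j, rfl⟩ := hko
  omega

/-- the final check for one prime -/
theorem kill {p f o v k s t : ℕ} (hv : v.Prime) (hk : v - 1 = 4 * k) (hko : Odd k) (hvo : v ∣ o)
    (hs : s.Prime) (ht : t.Prime) (hs2 : s ≠ 2) (ht2 : t ≠ 2) (hsp : s ∣ p + 1) (htp : t ∣ p ^ 2 + 1)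
    (hso : ¬ s ∣ o) (hto : ¬ t ∣ o)
    (h1 : ∀ r : ℕ, r.Prime → r ≠ 2 → r ∣ p ^ f + 1 → r ∣ o) (h2 : ∀ r : ℕ, r.Prime → r ∣ o → r ∣ p ^ f + 1) : False := by
  rcases Nat.even_or_odd f with hf | hf
  · obtain ⟨g, hg⟩ := hf
    have hg2 : f = 2 * g := by omega
    rcases Nat.even_or_odd g with he | he
    · obtain ⟨j, hj⟩ := he
      exact not_four hv hk hko (h2 v hv hvo) ⟨j, by omega⟩
    · refine hto (h1 t ht ht2 ?_)
      rw [hg2, pow_mul]
      have h3 := he.nat_add_dvd_pow_add_pow (p ^ 2) 1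
      rw [one_pow] at h3
      exact htp.trans h3
  · refine hso (h1 s hs hs2 ?_)
    have h3 := hf.nat_add_dvd_pow_add_pow p 1
    rw [one_pow] at h3
    exact hsp.trans h3

/-- **The contradiction for `PSL₂(p ^ f)`.** -/
theorem psl_num {m : ℕ} (hm : 1 ≤ m) {d : ℤ} (hd : d = 1 ∨ d = -1) {p f a o : ℕ} (hp : p.Prime) 
    (h : ((p ^ a : ℕ) : ℤ) = fN d (2 ^ m)) (ho : (o : ℤ) = fN (-d) (2 ^ m))
    (h1 : ∀ r : ℕ, r.Prime → r ≠ 2 → r ∣ p ^ f + 1 → r ∣ o) (h2 : ∀ r : ℕ, r.Prime → r ∣ o → r ∣ p ^ f + 1)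
    (h3 : ∀ r : ℕ, r.Prime → r ≠ 2 → r ∣ p ^ f - 1 → r ∣ (2 * (2 ^ m) ^ 2) ^ 12 - 1)
    (h4 : ∀ r : ℕ, r.Prime → r ∣ p ^ f - 1 → ¬ (r : ℤ) ∣ fN d (2 ^ m) ∧ ¬ (r : ℤ) ∣ fN (-d) (2 ^ m))
    (h5 : ¬ 15 ∣ p ^ f - 1) : False := by
  have ha := pow_eq hm hd hp h
  rw [ha, pow_one] at h
  have hb : (p : ℤ) - 1 = 2 * 2 ^ m * (2 ^ m + d) * (2 * (2 ^ m) ^ 2 + 1) := by rw [h, fN_sub_one]
  have hpf : ∀ r : ℕ, (r : ℤ) ∣ 2 ^ m + d → r ∣ p ^ f - 1 := by
    intro r hr
    have h6 : (r : ℤ) ∣ (p : ℤ) - 1 := by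
      rw [hb]
      exact (hr.mul_left _).mul_right _
    have h7 : r ∣ p - 1 := by
      have h8 : ((p - 1 : ℕ) : ℤ) = (p : ℤ) - 1 := by
        push_cast [Nat.cast_sub hp.one_lt.le]
        rfl
      rw [← h8] at h6
      exact_mod_cast h6
    have h9 := Nat.sub_dvd_pow_sub_pow p 1 f
    rw [one_pow] at h9
    exact h7.trans h9
  have hodd : ∀ r : ℕ, r.Prime → (r : ℤ) ∣ 2 ^ m + d → r ≠ 2 := by
    rintro r hr hrd rfl
    obtain ⟨k, rfl⟩ : ∃ k, m = k + 1 := ⟨m - 1, by omega⟩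
    rw [pow_succ] at hrd
    push_cast at hrd
    rcases hd with rfl | rfl <;> omega
  have hq : ∀ r : ℕ, (r : ℤ) ∣ 2 ^ m + d → (r : ℤ) ∣ 2 * (2 ^ m) ^ 2 - 2 := by
    intro r hr
    have e : (2 : ℤ) * (2 ^ m) ^ 2 - 2 = (2 ^ m + d) * (2 * (2 ^ m - d)) := by
      rcases hd with rfl | rfl <;> ring
    rw [e]
    exact hr.mul_right _
  have key := small_m hm hd ?_ ?_ ?_
  · rcases key with rfl | rfl | rfl | ⟨rfl, rfl⟩
    · rcases hd with rfl | rfl
      · have hp' : p = 109 := by unfold fN at h; norm_num at h; exact_mod_cast h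
        have ho' : o = 37 := by unfold fN at ho; norm_num at ho; exact_mod_cast ho
        subst hp' ho'
        exact kill (v := 37) (k := 9) (s := 5) (t := 13) (by norm_num) (by norm_num) (by decide) (by norm_num)
          (by norm_num) (by norm_num) (by norm_num) (by norm_num) (by norm_num) (by norm_num) (by norm_num)
          (by norm_num) h1 h2
      · have hp' : p = 37 := by unfold fN at h; norm_num at h; exact_mod_cast h
        have ho' : o = 109 := by unfold fN at ho; norm_num at ho; exact_mod_cast ho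
        subst hp' ho'
        exact kill (v := 109) (k := 27) (s := 19) (t := 5) (by norm_num) (by norm_num) (by decide) (by norm_num)
          (by norm_num) (by norm_num) (by norm_num) (by norm_num) (by norm_num) (by norm_num) (by norm_num)
          (by norm_num) h1 h2
    · rcases hd with rfl | rfl
      · have hp' : p = 1321 := by unfold fN at h; norm_num at h; exact_mod_cast h
        have ho' : o = 793 := by unfold fN at ho; norm_num at ho; exact_mod_cast ho
        subst hp' ho'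
        exact kill (v := 13) (k := 3) (s := 661) (t := 41) (by norm_num) (by norm_num) (by decide) (by norm_num)
          (by norm_num) (by norm_num) (by norm_num) (by norm_num) (by norm_num) (by norm_num) (by norm_num)
          (by norm_num) h1 h2
      · have hp' : p = 793 := by unfold fN at h; norm_num at h; exact_mod_cast h
        subst hp'
        norm_num at hp
    · rcases hd with rfl | rfl
      · have hp' : p = 18577 := by unfold fN at h; norm_num at h; exact_mod_cast h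
        subst hp'
        norm_num at hp
      · have hp' : p = 14449 := by unfold fN at h; norm_num at h; exact_mod_cast h
        have ho' : o = 18577 := by unfold fN at ho; norm_num at ho; exact_mod_cast ho
        subst hp' ho'
        exact kill (v := 13) (k := 3) (s := 5) (t := 113) (by norm_num) (by norm_num) (by decide) (by norm_num)
          (by norm_num) (by norm_num) (by norm_num) (by norm_num) (by norm_num) (by norm_num) (by norm_num)
          (by norm_num) h1 h2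
    · have hp' : p = 66068353 := by unfold fN at h; norm_num at h; exact_mod_cast h
      subst hp'
      norm_num at hp
  · intro r hr hrd
    have h6 := h3 r hr (hodd r hr hrd) (hpf r hrd)
    have h7 : (r : ℤ) ∣ (2 * (2 ^ m) ^ 2) ^ 12 - 2 ^ 12 := (hq r hrd).trans (sub_dvd_pow_sub_pow _ _ 12)
    have h8 : (r : ℤ) ∣ (2 * (2 ^ m) ^ 2) ^ 12 - 1 := by
      have h9 : (((2 * (2 ^ m) ^ 2) ^ 12 - 1 : ℕ) : ℤ) = (2 * (2 ^ m) ^ 2) ^ 12 - 1 := by
        have : 1 ≤ (2 * (2 ^ m) ^ 2) ^ 12 := Nat.one_le_pow _ _ (by positivity)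
        push_cast [Nat.cast_sub this]
        ring
      rw [← h9]
      exact_mod_cast h6
    have h9 : (r : ℤ) ∣ 2 ^ 12 - 1 := by
      have := dvd_sub h8 h7
      have e : ((2 * (2 ^ m) ^ 2) ^ 12 - 1 : ℤ) - ((2 * (2 ^ m) ^ 2) ^ 12 - 2 ^ 12) = 2 ^ 12 - 1 := by ring
      rwa [e] at this
    have e : ((2 ^ 12 - 1 : ℕ) : ℤ) = 2 ^ 12 - 1 := by norm_num
    rw [← e] at h9
    exact Int.natCast_dvd_natCast.1 h9
  · intro h13
    have h6 := hq 13 (by exact_mod_cast h13)
    have h7 := h4 13 (by norm_num) (hpf 13 (by exact_mod_cast h13))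
    have h8 : ((13 : ℕ) : ℤ) ∣ fN d (2 ^ m) * fN (-d) (2 ^ m) := by
      have e : fN d (2 ^ m) * fN (-d) (2 ^ m) = (2 * (2 ^ m) ^ 2) ^ 4 - (2 * (2 ^ m) ^ 2) ^ 2 + 1 := by
        rcases hd with rfl | rfl
        · exact fN_mul _
        · rw [neg_neg, mul_comm]
          exact fN_mul _
      rw [e]
      obtain ⟨c, hc⟩ := h6
      have h9 : (2 * (2 ^ m) ^ 2 : ℤ) = 13 * c + 2 := by push_cast at hc; linarith
      rw [h9]
      exact ⟨13 ^ 3 * c ^ 4 + 4 * 13 ^ 2 * c ^ 3 * 2 + 6 * 13 * c ^ 2 * 4 + 4 * c * 8 - 13 * c ^ 2 - 4 * c + 1, by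
        push_cast; ring⟩
    have h13p : Prime ((13 : ℕ) : ℤ) := Nat.prime_iff_prime_int.1 (by norm_num)
    rcases h13p.dvd_or_dvd h8 with h9 | h9
    · exact h7.1 h9
    · exact h7.2 h9
  · intro h15
    exact h5 (hpf 15 (by exact_mod_cast h15))

end Cfsg.Agent.H343.PG
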