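import Cfsg.Agent.H343.PG.PslNum
import Cfsg.Agent.H415.PG.Def
import Cfsg.Agent.H493.PGRows2
import Cfsg.Agent.H493.PGRows3

/-!
# The simple groups with the two isolated numbers of `²F₄(q)` (helper343, for S3635)

`TF S m n₁ n₂` : `n₁`, `n₂` are the numbers `q² ± √(2q³) + q ± √(2q) + 1`, `q = 2 ^ (2m + 1)`, both isolated in the prime
graph of `S`, the primes dividing `|S|` divide `2 (q ^ 12 - 1)`, `S` has no element of order 15.

Result (`TF.cases`): a known simple group with `TF` is `E₈(u)` or `²F₄(u)` (without the hypothesis on the order 15 except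
for `PSL₂`).
-/

set_option autoImplicit false
set_option linter.unusedSectionVars false

namespace Cfsg.Agent.H343.PG

open Cfsg Cfsg.Agent.H493 Cfsg.Agent.H493.PG Cfsg.Agent.H493.PGRows Cfsg.Agent.H415.PG3

/-- the hypotheses of the identification -/
structure TF (S : Type*) [Group S] (m n₁ n₂ : ℕ) : Prop where
  hm : 1 ≤ m
  e1 : (n₁ : ℤ) = fN 1 (2 ^ m)
  e2 : (n₂ : ℤ) = fN (-1) (2 ^ m)
  i1 : Ip S n₁
  i2 : Ip S n₂
  pi : ∀ r : ℕ, r.Prime → r ∣ Nat.card S → r = 2 ∨ r ∣ (2 * (2 ^ m) ^ 2) ^ 12 - 1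
  e15 : ¬ ∃ x : S, orderOf x = 15

theorem dvd_of_conn {S : Type*} [Group S] {n r s : ℕ} (h : Ip S n) (hr : r ∣ n) (hc : Conn S r s) : s ∣ n := by
  induction hc with
  | refl => exact hr
  | tail _ hr ih =>
    by_contra hs
    exact h.iso _ _ hr.1 hr.2.1 ih hs hr.2.2.2

section

variable {S : Type*} [Group S] {m n₁ n₂ : ℕ}

theorem TF.congr {T : Type*} [Group T] (h : TF S m n₁ n₂) (e : S ≃* T) : TF T m n₁ n₂ where
  hm := h.hm
  e1 := h.e1
  e2 := h.e2
  i1 := h.i1.congr e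
  i2 := h.i2.congr e
  pi := fun r hr hd => h.pi r hr (by rw [Nat.card_congr e.toEquiv]; exact hd)
  e15 := fun ⟨x, hx⟩ => h.e15 ⟨e.symm x, by rw [← hx, MulEquiv.orderOf_eq]⟩

theorem TF.mod1 (h : TF S m n₁ n₂) {r : ℕ} (hr : r.Prime) (hd : r ∣ n₁) : r % 12 = 1 :=
  mod_twelve hr (Or.inl rfl) (b := 2 ^ m) (by rw [← h.e1]; exact_mod_cast hd)

theorem TF.mod2 (h : TF S m n₁ n₂) {r : ℕ} (hr : r.Prime) (hd : r ∣ n₂) : r % 12 = 1 :=
  mod_twelve hr (Or.inr rfl) (b := 2 ^ m) (by rw [← h.e2]; exact_mod_cast hd)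

theorem TF.coprime (h : TF S m n₁ n₂) {r : ℕ} (hr : r.Prime) (h1 : r ∣ n₁) (h2 : r ∣ n₂) : False :=
  not_both hr (d := 1) (b := 2 ^ m) (Or.inl rfl) (by rw [← h.e1]; exact_mod_cast h1) (by rw [← h.e2]; exact_mod_cast h2)

/-- one of the two numbers -/
def Cl (n₁ n₂ r : ℕ) : Prop := r ∣ n₁ ∨ r ∣ n₂

theorem TF.mod (h : TF S m n₁ n₂) {r : ℕ} (hr : r.Prime) (hd : Cl n₁ n₂ r) : r % 12 = 1 :=
  hd.elim (h.mod1 hr) (h.mod2 hr)

theorem TF.cl_of_conn (h : TF S m n₁ n₂) {r s : ℕ} (hd : Cl n₁ n₂ r) (hc : Conn S r s) : Cl n₁ n₂ s :=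
  hd.elim (fun h1 => Or.inl (dvd_of_conn h.i1 h1 hc)) fun h1 => Or.inr (dvd_of_conn h.i2 h1 hc)

theorem TF.mod_of_conn (h : TF S m n₁ n₂) {r s : ℕ} (hs : s.Prime) (hd : Cl n₁ n₂ r) (hc : Conn S r s) : s % 12 = 1 :=
  h.mod hs (h.cl_of_conn hd hc)

theorem TF.not_conn_two (h : TF S m n₁ n₂) {r : ℕ} (hd : Cl n₁ n₂ r) : ¬ Conn S r 2 := fun hc => by
  have := h.mod_of_conn Nat.prime_two hd hc
  omega

/-- a prime in each of the two classes -/
theorem TF.pair (h : TF S m n₁ n₂) : ∃ r s : ℕ, r.Prime ∧ s.Prime ∧ r ∣ n₁ ∧ s ∣ n₂ ∧ r ∣ Nat.card S ∧ s ∣ Nat.card S ∧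
    r ≠ s ∧ ¬ Conn S r s := by
  obtain ⟨r, hr, h1⟩ := Nat.exists_prime_and_dvd h.i1.one_lt.ne'
  obtain ⟨s, hs, h2⟩ := Nat.exists_prime_and_dvd h.i2.one_lt.ne'
  refine ⟨r, s, hr, hs, h1, h2, h.i1.dvd r hr h1, h.i2.dvd s hs h2, ?_, ?_⟩
  · rintro rfl
    exact h.coprime hr h1 h2
  · intro hc
    exact h.coprime hs (dvd_of_conn h.i1 h1 hc) h2

/-- at most two components -/
theorem TF.not_few (h : TF S m n₁ n₂) (hf : Few 3 S) (h2 : 2 ∣ Nat.card S) : False := by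
  obtain ⟨r, s, hr, hs, h1, h2', hrd, hsd, hrs, hc⟩ := h.pair
  have hr2 : r ≠ 2 := by
    have := h.mod1 hr h1
    omega
  have hs2 : s ≠ 2 := by
    have := h.mod2 hs h2'
    omega
  obtain ⟨i, j, hij, hc'⟩ := hf ![2, r, s] (by
    intro i j hij
    fin_cases i <;> fin_cases j <;> simp_all) (by
    intro i
    fin_cases i
    · exact ⟨Nat.prime_two, h2⟩
    · exact ⟨hr, hrd⟩
    · exact ⟨hs, hsd⟩)
  have k1 := h.not_conn_two (Or.inl h1)
  have k2 := h.not_conn_two (Or.inr h2')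
  fin_cases i <;> fin_cases j <;> simp at hij hc'
  · exact k1 hc'.symm
  · exact k2 hc'.symm
  · exact k1 hc'
  · exact hc hc'
  · exact k2 hc'
  · exact hc hc'.symm

/-- three classes: both odd classes are isolated -/
theorem TF.split (h : TF S m n₁ n₂) {A B : ℕ → Prop} (hc : ∀ r : ℕ, r.Prime → r ∣ Nat.card S → Conn S r 2 ∨ A r ∨ B r)
    (hA : ∀ r s : ℕ, r.Prime → s.Prime → A r → A s → Conn S r s)
    (hB : ∀ r s : ℕ, r.Prime → s.Prime → B r → B s → Conn S r s) :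
    ∃ r s : ℕ, r.Prime ∧ s.Prime ∧ A r ∧ B s ∧ ((r ∣ n₁ ∧ s ∣ n₂) ∨ (r ∣ n₂ ∧ s ∣ n₁)) := by
  obtain ⟨r, s, hr, hs, h1, h2', hrd, hsd, hrs, hcr⟩ := h.pair
  have k1 := h.not_conn_two (Or.inl h1)
  have k2 := h.not_conn_two (Or.inr h2')
  rcases hc r hr hrd with h3 | h3 | h3
  · exact absurd h3 k1
  · rcases hc s hs hsd with h4 | h4 | h4
    · exact absurd h4 k2
    · exact absurd (hA r s hr hs h3 h4) hcr
    · exact ⟨r, s, hr, hs, h3, h4, Or.inl ⟨h1, h2'⟩⟩
  · rcases hc s hs hsd with h4 | h4 | h4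
    · exact absurd h4 k2
    · exact ⟨s, r, hs, hr, h4, h3, Or.inr ⟨h2', h1⟩⟩
    · exact absurd (hB r s hr hs h3 h4) hcr

/-- all but one of the primes not connected to 2 are not 1 modulo 12 -/
theorem TF.not_list (h : TF S m n₁ n₂) (R : List ℕ) (hR : ∀ r : ℕ, r.Prime → r ∣ Nat.card S → r ∉ R → Conn S r 2)
    (hR2 : ∀ r ∈ R, ∀ s ∈ R, r % 12 = 1 → s % 12 = 1 → r = s) : False := by
  obtain ⟨r, s, hr, hs, h1, h2', hrd, hsd, hrs, hcr⟩ := h.pair
  have k1 := h.not_conn_two (Or.inl h1)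
  have k2 := h.not_conn_two (Or.inr h2')
  have hrR : r ∈ R := by
    by_contra hc
    exact k1 (hR r hr hrd hc)
  have hsR : s ∈ R := by
    by_contra hc
    exact k2 (hR s hs hsd hc)
  exact hrs (hR2 r hrR s hsR (h.mod1 hr h1) (h.mod2 hs h2'))

end

/-- a number all prime divisors of which are 1 modulo 12 -/
theorem mod_one {n : ℕ} (hn : n ≠ 0) (h : ∀ r : ℕ, r.Prime → r ∣ n → r % 12 = 1) : n % 12 = 1 := by
  induction n using Nat.recOnMul with
  | zero => exact absurd rfl hn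
  | one => rfl
  | prime p hp => exact h p hp dvd_rfl
  | mul a b iha ihb =>
    have ha : a ≠ 0 := fun h0 => hn (by rw [h0, zero_mul])
    have hb : b ≠ 0 := fun h0 => hn (by rw [h0, mul_zero])
    rw [Nat.mul_mod, iha ha fun r hr hd => h r hr (hd.mul_right _), ihb hb fun r hr hd => h r hr (hd.mul_left _)]

/-! ### alternating, sporadic -/

section

variable {S : Type*} [Group S] [Finite S] {m n₁ n₂ : ℕ}

theorem TF.not_isAlternating (h : TF S m n₁ n₂) : ¬ IsAlternating S := by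
  rintro ⟨n, hn, ⟨e⟩⟩
  have h' := h.congr e
  refine h'.not_list [n, n - 1, n - 2, n - 3] ?_ ?_
  · intro r hr hd hR
    by_cases hr2 : r = 2
    · rw [hr2]
      exact Conn.refl _
    · refine conn_alt hr hr2 ?_
      have h1 : r ∣ n.factorial := by
        have h2 : Nat.card (alternatingGroup (Fin n)) ∣ Nat.card (Equiv.Perm (Fin n)) :=
          Subgroup.card_subgroup_dvd_card _
        rw [Nat.card_eq_fintype_card (α := Equiv.Perm (Fin n)), Fintype.card_perm, Fintype.card_fin] at h2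
        exact hd.trans h2
      have h3 : r ≤ n := (Nat.Prime.dvd_factorial hr).1 h1
      simp only [List.mem_cons, List.not_mem_nil, or_false, not_or] at hR
      omega
  · intro r hr s hs h1 h2
    simp only [List.mem_cons, List.not_mem_nil, or_false] at hr hs
    omega

theorem TF.not_nr (h : TF S m n₁ n₂) {N : ℕ} (R : List ℕ) (hN : Nat.card S = N)
    (h1 : ∀ r, r.Prime → r ∣ N → r ∉ R → H94.PG.Sp.Nr S r)
    (hR2 : ∀ r ∈ R, ∀ s ∈ R, r % 12 = 1 → s % 12 = 1 → r = s) : False :=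
  h.not_list R (fun r hr hd hR => conn_of (h1 r hr (hN ▸ hd) hR).conn) hR2

open H94.PG.Sp in
theorem TF.not_isSporadic (h0 : TF S m n₁ n₂) : ¬ IsSporadicGroup S := by
  intro h
  rcases h with h | h | h | h | h | h | h | h | h | h | h | h | h | h | h | h | h | h | h | h | h | h | h | h | h | h
  · exact h0.not_nr [5, 11] (NotCT.Orders.m11 h) (fun r hr hd hR => nr_m11' h hr hd hR) (by decide)
  · exact h0.not_nr [11] (NotCT.Orders.m12 h) (fun r hr hd hR => nr_m12' h hr hd hR) (by decide)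
  · exact h0.not_nr [5, 7, 11] (NotCT.Orders.m22 h) (fun r hr hd hR => nr_m22' h hr hd hR) (by decide)
  · exact h0.not_nr [5, 11, 23] (NotCT.Orders.m23 h) (fun r hr hd hR => nr_m23' h hr hd hR) (by decide)
  · exact h0.not_nr [11, 23] (NotCT.Orders.m24 h) (fun r hr hd hR => nr_m24' h hr hd hR) (by decide)
  · exact h0.not_nr [7, 11, 19] (NotCT.Orders.j1 h) (fun r hr hd hR => nr_j1 h hr hd hR) (by decide)
  · exact h0.not_nr [7] (NotCT.Orders.j2 h) (fun r hr hd hR => nr_j2 h hr hd hR) (by decide)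
  · exact h0.not_nr [17, 19] (NotCT.Orders.j3 h) (fun r hr hd hR => nr_j3 h hr hd hR) (by decide)
  · exact h0.not_nr [23, 29, 31, 37, 43] (NotCT.Orders.j4 h) (fun r hr hd hR => nr_j4 h hr hd hR) (by decide)
  · exact h0.not_nr [23] (NotCT.Orders.co1 h) (fun r hr hd hR => nr_co1 h hr hd hR) (by decide)
  · exact h0.not_nr [11, 23] (NotCT.Orders.co2 h) (fun r hr hd hR => nr_co2 h hr hd hR) (by decide)
  · exact h0.not_nr [23] (NotCT.Orders.co3 h) (fun r hr hd hR => nr_co3 h hr hd hR) (by decide)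
  · exact h0.not_nr [11] (NotCT.Orders.mcl h) (fun r hr hd hR => nr_mcl h hr hd hR) (by decide)
  · exact h0.not_nr [7, 11] (NotCT.Orders.hs h) (fun r hr hd hR => nr_hs h hr hd hR) (by decide)
  · exact h0.not_nr [11, 13] (NotCT.Orders.suz h) (fun r hr hd hR => nr_suz h hr hd hR) (by decide)
  · exact h0.not_nr [17] (NotCT.Orders.he h) (fun r hr hd hR => nr_he h hr hd hR) (by decide)
  · exact h0.not_nr [29] (NotCT.Orders.ru h) (fun r hr hd hR => nr_ru h hr hd hR) (by decide)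
  · exact h0.not_nr [11, 19, 31] (NotCT.Orders.on h) (fun r hr hd hR => nr_on h hr hd hR) (by decide)
  · exact h0.not_nr [31, 37, 67] (NotCT.Orders.ly h) (fun r hr hd hR => nr_ly h hr hd hR) (by decide)
  · exact h0.not_nr [13] (NotCT.Orders.fi22 h) (fun r hr hd hR => nr_fi22 h hr hd hR) (by decide)
  · exact h0.not_nr [17, 23] (NotCT.Orders.fi23 h) (fun r hr hd hR => nr_fi23 h hr hd hR) (by decide)
  · exact h0.not_nr [17, 23, 29] (NotCT.Orders.fi24 h) (fun r hr hd hR => nr_fi24 h hr hd hR) (by decide)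
  · exact h0.not_nr [19] (NotCT.Orders.hn h) (fun r hr hd hR => nr_hn h hr hd hR) (by decide)
  · exact h0.not_nr [13, 19, 31] (NotCT.Orders.th h) (fun r hr hd hR => nr_th h hr hd hR) (by decide)
  · exact h0.not_nr [31, 47] (NotCT.Orders.b h) (fun r hr hd hR => nr_b h hr hd hR) (by decide)
  · exact h0.not_nr [29, 41, 59, 71] (NotCT.Orders.m h) (fun r hr hd hR => nr_m h hr hd hR) (by decide)

open H94.PG.Sp in
theorem TF.not_isTits (h0 : TF S m n₁ n₂) : ¬ Lie.IsoTits S := fun h =>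
  h0.not_nr [13] (NotCT.Orders.tits h) (fun _ hr hd hR => nr_tits h hr hd hR) (by decide)

end

end Cfsg.Agent.H343.PG
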