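import Cfsg.Agent.H343.PG.RowPsl

/-!
# The identification of `²F₄(q)` by its prime graph: classical groups (helper343, for S3635)
-/

set_option autoImplicit false
set_option linter.unusedSectionVars false

namespace Cfsg.Agent.H343.PG

open Cfsg Cfsg.Agent Cfsg.Agent.H493 Cfsg.Agent.H493.PG Cfsg.Agent.H493.PGRows Cfsg.Agent.H415.PG3

variable {S : Type*} [Group S] [Finite S] {m n₁ n₂ : ℕ}

theorem TF.not_isPSL (h0 : TF S m n₁ n₂) (h2 : 2 ∣ Nat.card S) : ¬ IsPSL S := by
  rintro ⟨F, _, _, n, hn, h4, ⟨e⟩⟩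
  have h := h0.congr e
  have h2' : 2 ∣ Nat.card (Matrix.ProjectiveSpecialLinearGroup (Fin n) F) := by rwa [← Nat.card_congr e.toEquiv]
  rcases Nat.lt_or_ge n 3 with h3 | h3
  · obtain rfl : n = 2 := by omega
    exact h.not_psl_two (h4 rfl)
  · by_cases hex : n = 3 ∧ (Nat.card F = 2 ∨ Nat.card F = 4)
    · obtain ⟨rfl, hex⟩ := hex
      refine h.not_list [3, 5, 7] (fun r hr hd hR => ?_) (by decide)
      have hr2 : r = 2 := by
        by_contra hr2
        have key : r ∣ 2 ^ 2 * (3 ^ 2 * 5 * 7) := by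
          rcases H371.Psl.dvd_card (by norm_num) hr hd with h1 | ⟨k, hk1, hk3, h1⟩
          · rcases hex with h | h <;> rw [h] at h1 <;> exact h1.trans (by norm_num)
          · rcases hex with h | h <;> rw [h] at h1 <;> interval_cases k <;> exact h1.trans (by norm_num)
        rcases (Nat.Prime.dvd_mul hr).1 key with h1 | h1
        · exact hr2 ((Nat.prime_dvd_prime_iff_eq hr Nat.prime_two).1 (hr.dvd_of_dvd_pow h1))
        rcases (Nat.Prime.dvd_mul hr).1 h1 with h1 | h1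
        · rcases (Nat.Prime.dvd_mul hr).1 h1 with h1 | h1
          · exact hR (by simp [(Nat.prime_dvd_prime_iff_eq hr Nat.prime_three).1 (hr.dvd_of_dvd_pow h1)])
          · exact hR (by simp [(Nat.prime_dvd_prime_iff_eq hr (by norm_num)).1 h1])
        · exact hR (by simp [(Nat.prime_dvd_prime_iff_eq hr (by norm_num)).1 h1])
      rw [hr2]
      exact Conn.refl _
    · refine h.not_few (few_of_two le_rfl fun r s hr hs hr2 hs2 hrd hsd => ?_) h2'
      rcases H371.Psl.three h3 hr hs hr2 hs2 hrd hsd with h | h | h | h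
      · exact Or.inl (conn_of h)
      · exact Or.inr (Or.inl (conn_of h))
      · exact Or.inr (Or.inr (conn_of h))
      · exact absurd h hex

theorem TF.not_isPSU (h0 : TF S m n₁ n₂) (h2 : 2 ∣ Nat.card S) : ¬ IsPSU S := by
  intro h
  by_cases h43 : ∃ (F : Type) (_ : Field F) (_ : Fintype F), Fintype.card F = 3 ^ 2 ∧ Nonempty (S ≃* Cfsg.PSU 4 F 3)
  · obtain ⟨F, _, _, hF, ⟨e⟩⟩ := h43
    have h' := h0.congr e
    have : Finite (Cfsg.PSU 4 F 3) := Finite.of_equiv S e.toEquiv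
    refine h'.not_list [5, 7] (fun r hr hd hR => ?_) (by decide)
    rcases H948.UMain.psu_four_three hF hr hd with h | h | h
    · exact conn_of h.conn
    · exact absurd h (fun h => hR (by simp [h]))
    · exact absurd h (fun h => hR (by simp [h]))
  by_cases h62 : ∃ (F : Type) (_ : Field F) (_ : Fintype F), Fintype.card F = 2 ^ 2 ∧ Nonempty (S ≃* Cfsg.PSU 6 F 2)
  · obtain ⟨F, _, _, hF, ⟨e⟩⟩ := h62
    have h' := h0.congr e
    have : Finite (Cfsg.PSU 6 F 2) := Finite.of_equiv S e.toEquiv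
    refine h'.not_list [7, 11] (fun r hr hd hR => ?_) (by decide)
    rcases H948.UMain.psu_six_two hF hr hd with h | h | h
    · exact conn_of h.conn
    · exact absurd h (fun h => hR (by simp [h]))
    · exact absurd h (fun h => hR (by simp [h]))
  refine h0.not_few (few_of_two le_rfl fun r s hr hs hr2 hs2 hrd hsd => ?_) h2
  rcases H948.UMain.psu_three h hr hs hr2 hs2 hrd hsd with h | h | h | h | h
  · exact Or.inl (conn_of h)
  · exact Or.inr (Or.inl (conn_of h))
  · exact Or.inr (Or.inr (conn_of h))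
  · exact absurd h h43
  · exact absurd h h62

theorem minus_arith {q M : ℕ} (hM : 4 ≤ M) (hq : q = 2 ∨ q = 3)
    (h1 : ∀ t : ℕ, t.Prime → t ≠ 2 → t ∣ q ^ (M - 1) + 1 → t % 12 = 1)
    (h2 : ∀ t : ℕ, t.Prime → t ≠ 2 → t ∣ q ^ M + 1 → t % 12 = 1) : False := by
  obtain ⟨e, he, he0, h3⟩ : ∃ e : ℕ, Even e ∧ e ≠ 0 ∧ ∀ t : ℕ, t.Prime → t ≠ 2 → t ∣ q ^ e + 1 → t % 12 = 1 := by
    rcases Nat.even_or_odd M with h | h
    · exact ⟨M, h, by omega, h2⟩
    · exact ⟨M - 1, Nat.Odd.sub_odd h (by decide), by omega, h1⟩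
  obtain ⟨o, ho, h4⟩ : ∃ e : ℕ, Odd e ∧ ∀ t : ℕ, t.Prime → t ≠ 2 → t ∣ q ^ e + 1 → t % 12 = 1 := by
    rcases Nat.even_or_odd M with h | h
    · exact ⟨M - 1, Nat.Even.sub_odd (by omega) h (by decide), h1⟩
    · exact ⟨M, h, h2⟩
  rcases hq with rfl | rfl
  · have h5 := h4 3 Nat.prime_three (by norm_num) (by
      have := ho.nat_add_dvd_pow_add_pow 2 1
      rwa [one_pow] at this)
    omega
  · obtain ⟨k, rfl⟩ := he
    have h9 : 3 ^ (k + k) % 8 = 1 := by
      rw [← two_mul, pow_mul, Nat.pow_mod]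
      norm_num
    have h5 : ((3 ^ (k + k) + 1) / 2) % 12 = 1 := by
      refine mod_one (by omega) fun r hr hd => ?_
      refine h3 r hr ?_ (hd.trans (Nat.div_dvd_of_dvd (by omega)))
      rintro rfl
      omega
    have h6 : 3 ∣ 3 ^ (k + k) := dvd_pow_self 3 he0
    omega

theorem TF.not_isPOmegaMinus (h0 : TF S m n₁ n₂) : ¬ IsPOmegaMinus S := by
  rintro ⟨F, iF, iF', M, a, b, hm, hab, ⟨e⟩⟩
  have h := h0.congr e
  have : Finite (Cfsg.POmega F (Cfsg.quadFormMinus (M - 1) F a b)) := Finite.of_equiv S e.toEquiv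
  have hcard := Cfsg.Agent.S0294.result (F := F) rfl M hm a b hab
  simp only [← Nat.card_eq_fintype_card] at hcard
  have hs := H182.Sign.sg_minusForm (F := F) (M - 1) hab
  rw [Nat.sub_add_cancel (by omega)] at hs
  rw [← LieClassical.OrthForms.coe_minusForm] at hcard h
  have key := h.split
    (A := fun r => (r ≠ 2 ∧ r ∣ Nat.card F ^ (M - 1) + 1) ∧ Nat.card F ≤ 3)
    (B := fun r => r ≠ 2 ∧ r ∣ Nat.card F ^ M + 1) ?_ ?_ ?_
  · obtain ⟨r, s, hr, hs', hA, hB, hrs⟩ := key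
    have hq : Nat.card F = 2 ∨ Nat.card F = 3 := by
      have h1 : 1 < Nat.card F := Finite.one_lt_card
      have h2 := hA.2
      omega
    have hcr : Cl n₁ n₂ r := by
      rcases hrs with h1 | h1
      · exact Or.inl h1.1
      · exact Or.inr h1.1
    have hcs : Cl n₁ n₂ s := by
      rcases hrs with h1 | h1
      · exact Or.inr h1.2
      · exact Or.inl h1.2
    refine minus_arith hm hq (fun t ht ht2 htd => ?_) (fun t ht ht2 htd => ?_)
    · exact h.mod_of_conn ht hcr (conn_of (H182.Orth.conn_pow_add hs hm (by omega) (Or.inl (by omega)) hr ht hA.1.1 ht2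
        hA.1.2 htd))
    · exact h.mod_of_conn ht hcs (conn_of (H182.Orth.conn_pow_add hs hm (by omega) (Or.inr ⟨rfl, rfl⟩) hs' ht hB.1 ht2
        hB.2 htd))
  · intro r hr hd
    by_cases hr2 : r = 2
    · subst hr2
      exact Or.inl (Conn.refl _)
    rcases H182.Orth.minus_cases hs hm hcard hr hr2 hd with h | h | h
    · exact Or.inl (conn_of h).symm
    · exact Or.inr (Or.inl ⟨⟨hr2, h.1⟩, h.2⟩)
    · exact Or.inr (Or.inr ⟨hr2, h⟩)
  · intro r s hr hs' h1 h2
    exact conn_of (H182.Orth.conn_pow_add hs hm (by omega) (Or.inl (by omega)) hr hs' h1.1.1 h2.1.1 h1.1.2 h2.1.2)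
  · intro r s hr hs' h1 h2
    exact conn_of (H182.Orth.conn_pow_add hs hm (by omega) (Or.inr ⟨rfl, rfl⟩) hr hs' h1.1 h2.1 h1.2 h2.2)

end Cfsg.Agent.H343.PG
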