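import Cfsg.Agent.H343.PG.RowCls

/-!
# The identification of `²F₄(q)` by its prime graph: exceptional groups (helper343, for S3635)
-/

set_option autoImplicit false
set_option linter.unusedSectionVars false

namespace Cfsg.Agent.H343.PG

open Cfsg Cfsg.Lie Cfsg.Agent Cfsg.Agent.H493 Cfsg.Agent.H493.PG Cfsg.Agent.H493.PGRows Cfsg.Agent.H415.PG3
open Cfsg.Agent.H378.ExcAdj (od)

variable {S : Type*} [Group S] [Finite S] {m n₁ n₂ : ℕ}

theorem not_six {q : ℕ} (hq : IsPrimePow q) (h : 6 ∣ q) : False := by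
  obtain ⟨p, k, hp, hk, rfl⟩ := hq
  have hp := hp.nat_prime
  have h2 := (Nat.prime_dvd_prime_iff_eq Nat.prime_two hp).1 (Nat.prime_two.dvd_of_dvd_pow ((by norm_num : 2 ∣ 6).trans h))
  have h3 := (Nat.prime_dvd_prime_iff_eq Nat.prime_three hp).1
    (Nat.prime_three.dvd_of_dvd_pow ((by norm_num : 3 ∣ 6).trans h))
  omega

theorem isPrimePow_card (F : Type*) [Field F] [Finite F] : IsPrimePow (Nat.card F) := by
  have := Fintype.ofFinite F
  rw [Nat.card_eq_fintype_card]
  exact Fintype.isPrimePow_card_of_field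

theorem TF.not_isoChevG2 (h0 : TF S m n₁ n₂) : ¬ IsoChevG2 S := by
  rintro ⟨F, _, _, -, ⟨e⟩⟩
  have h := h0.congr e
  have hfin : Finite ↥(chevG2.group F) := Finite.of_equiv S e.toEquiv
  have key := h.split (A := fun r => od (Nat.card F) r = 3) (B := fun r => od (Nat.card F) r = 6) ?_ ?_ ?_
  · obtain ⟨r, s, hr, hs, hA, hB, hrs⟩ := key
    have hcr : Cl n₁ n₂ r := by
      rcases hrs with h1 | h1
      · exact Or.inl h1.1
      · exact Or.inr h1.1
    have hcs : Cl n₁ n₂ s := by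
      rcases hrs with h1 | h1
      · exact Or.inr h1.2
      · exact Or.inl h1.2
    have hq2 : 2 ≤ Nat.card F := Finite.one_lt_card
    set q := Nat.card F with hq
    have h3 : (q ^ 2 + q + 1) % 12 = 1 := mod_one (by positivity) fun t ht htd =>
      h.mod_of_conn ht hcr (PGG2.conn3 hr ht (H378.CycTab.dvd3 hr hA) (by
        rw [PGCyc.pv_c3]
        exact_mod_cast htd))
    have h4 : (q ^ 2 + 1 - q) % 12 = 1 := mod_one (by nlinarith [Nat.sub_add_cancel (show q ≤ q ^ 2 + 1 by nlinarith)])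
      fun t ht htd => h.mod_of_conn ht hcs (PGG2.conn6 hs ht (H378.CycTab.dvd6 hs hB) (by
        rw [PGCyc.pv_c6]
        have : ((q ^ 2 + 1 - q : ℕ) : ℤ) = (q : ℤ) ^ 2 - q + 1 := by
          rw [Nat.cast_sub (by nlinarith)]
          push_cast
          ring
        rw [← hq, ← this]
        exact_mod_cast htd))
    refine not_six (isPrimePow_card F) ?_
    rw [← hq]
    have h5 : q ≤ q ^ 2 + 1 := by nlinarith
    omega
  · intro r hr hd
    rcases H378.ExcAdj.adj_G2 F hr hd with h | h | h | h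
    · subst h
      exact Or.inl (Conn.refl _)
    · exact Or.inl (conn_of_adj h)
    · exact Or.inr (Or.inl h)
    · exact Or.inr (Or.inr h)
  · intro r s hr hs h1 h2
    exact PGG2.conn3 hr hs (H378.CycTab.dvd3 hr h1) (H378.CycTab.dvd3 hs h2)
  · intro r s hr hs h1 h2
    exact PGG2.conn6 hr hs (H378.CycTab.dvd6 hr h1) (H378.CycTab.dvd6 hs h2)

theorem TF.not_isoF4 (h0 : TF S m n₁ n₂) : ¬ IsoF4 S := by
  rintro ⟨F, _, _, ⟨e⟩⟩
  have h := h0.congr e
  have hfin : Finite ↥(chevF4.group F) := Finite.of_equiv S e.toEquiv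
  have key := h.split (A := fun r => od (Nat.card F) r = 8) (B := fun r => od (Nat.card F) r = 12) ?_ ?_ ?_
  · obtain ⟨r, s, hr, hs, hA, hB, hrs⟩ := key
    have hcr : Cl n₁ n₂ r := by
      rcases hrs with h1 | h1
      · exact Or.inl h1.1
      · exact Or.inr h1.1
    have h3 : (Nat.card F ^ 4 + 1) % 12 = 1 := mod_one (by positivity) fun t ht htd =>
      h.mod_of_conn ht hcr (PGF4.conn8 hr ht (H378.CycTab.dvd8 hr hA) (by
        rw [PGCyc.pv_c8]
        exact_mod_cast htd))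
    refine not_six (isPrimePow_card F) ?_
    have h4 : 6 ∣ Nat.card F ^ 4 := by omega
    have h2 := Nat.prime_two.dvd_of_dvd_pow ((by norm_num : 2 ∣ 6).trans h4)
    have h3 := Nat.prime_three.dvd_of_dvd_pow ((by norm_num : 3 ∣ 6).trans h4)
    omega
  · intro r hr hd
    rcases H378.ExcAdj.adj_F4 F hr hd with h | h | h | h
    · subst h
      exact Or.inl (Conn.refl _)
    · exact Or.inl (conn_of_adj h)
    · exact Or.inr (Or.inl h)
    · exact Or.inr (Or.inr h)
  · intro r s hr hs h1 h2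
    exact PGF4.conn8 hr hs (H378.CycTab.dvd8 hr h1) (H378.CycTab.dvd8 hs h2)
  · intro r s hr hs h1 h2
    exact PGF4.conn12 hr hs (H378.CycTab.dvd12 hr h1) (H378.CycTab.dvd12 hs h2)

/-- primes with a given order of 2 or 3 -/
theorem od_two_seven {r : ℕ} (hr : r.Prime) (h : od 2 r = 7) : r = 127 := by
  have h1 := H378.CycTab.dvd7 hr h
  rw [H378.CycTab.pv7] at h1
  norm_num at h1
  have h2 : r ∣ 127 := by exact_mod_cast h1
  exact (Nat.prime_dvd_prime_iff_eq hr (by norm_num)).1 h2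

theorem od_two_eighteen {r : ℕ} (hr : r.Prime) (h : od 2 r = 18) : r = 3 ∨ r = 19 := by
  have h1 := H378.CycTab.dvd18 hr h
  rw [H378.CycTab.pv18] at h1
  norm_num at h1
  have h2 : r ∣ 3 * 19 := by exact_mod_cast h1
  rcases (Nat.Prime.dvd_mul hr).1 h2 with h3 | h3
  · exact Or.inl ((Nat.prime_dvd_prime_iff_eq hr (by norm_num)).1 h3)
  · exact Or.inr ((Nat.prime_dvd_prime_iff_eq hr (by norm_num)).1 h3)

theorem od_three_nine {r : ℕ} (hr : r.Prime) (h : od 3 r = 9) : r = 757 := by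
  have h1 := H378.CycTab.dvd9 hr h
  rw [H378.CycTab.pv9] at h1
  norm_num at h1
  have h2 : r ∣ 757 := by exact_mod_cast h1
  exact (Nat.prime_dvd_prime_iff_eq hr (by norm_num)).1 h2

theorem od_three_seven {r : ℕ} (hr : r.Prime) (h : od 3 r = 7) : r = 1093 := by
  have h1 := H378.CycTab.dvd7 hr h
  rw [H378.CycTab.pv7] at h1
  norm_num at h1
  have h2 : r ∣ 1093 := by exact_mod_cast h1
  exact (Nat.prime_dvd_prime_iff_eq hr (by norm_num)).1 h2

theorem TF.not_isoE7 (h0 : TF S m n₁ n₂) : ¬ IsoE7 S := by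
  rintro ⟨F, _, _, ⟨e⟩⟩
  have h := h0.congr e
  have hfin : Finite ↥(chevE7.group F) := Finite.of_equiv S e.toEquiv
  have hcls : ∀ r : ℕ, r.Prime → r ∣ Nat.card ↥(chevE7.group F) → Conn ↥(chevE7.group F) r 2 ∨
      (Nat.card F ≤ 3 ∧ od (Nat.card F) r = 7) ∨ (Nat.card F ≤ 3 ∧ od (Nat.card F) r = 9) := by
    intro r hr hd
    rcases H378.ExcNear.near_E7 (F := F) hr hd with h | ⟨h3, h | h⟩
    · exact Or.inl (conn_of h.conn)
    · exact Or.inr (Or.inl ⟨h3, h⟩)
    · exact Or.inr (Or.inr ⟨h3, h⟩)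
  have hA : ∀ r s : ℕ, r.Prime → s.Prime → (Nat.card F ≤ 3 ∧ od (Nat.card F) r = 7) →
      (Nat.card F ≤ 3 ∧ od (Nat.card F) s = 7) → Conn ↥(chevE7.group F) r s := fun r s hr hs h1 h2 =>
    PGE7.conn7 hr hs (H378.ExcNear.not_dvd_of_od hr h1.2 (by norm_num) (by norm_num))
        (H378.ExcNear.not_dvd_of_od hs h2.2 (by norm_num) (by norm_num)) (H378.CycTab.dvd7 hr h1.2)
        (H378.CycTab.dvd7 hs h2.2)
  have hB : ∀ r s : ℕ, r.Prime → s.Prime → (Nat.card F ≤ 3 ∧ od (Nat.card F) r = 9) →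
      (Nat.card F ≤ 3 ∧ od (Nat.card F) s = 9) → Conn ↥(chevE7.group F) r s := fun r s hr hs h1 h2 =>
    PGE7.conn9 hr hs (H378.ExcNear.not_dvd_of_od hr h1.2 (by norm_num) (by norm_num))
        (H378.ExcNear.not_dvd_of_od hs h2.2 (by norm_num) (by norm_num)) (H378.CycTab.dvd9 hr h1.2)
        (H378.CycTab.dvd9 hs h2.2)
  obtain ⟨r, s, hr, hs, h1, h2, hrs⟩ := h.split hcls hA hB
  have hq2 : 2 ≤ Nat.card F := Finite.one_lt_card
  have hcr : Cl n₁ n₂ r := by
    rcases hrs with h1 | h1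
    · exact Or.inl h1.1
    · exact Or.inr h1.1
  obtain ⟨h3, h1⟩ := h1
  obtain ⟨-, h2⟩ := h2
  have hqc : Nat.card F = 2 ∨ Nat.card F = 3 := by omega
  rcases hqc with hq | hq
  · rw [hq] at h1
    have h4 := od_two_seven hr h1
    have h5 := h.mod hr hcr
    rw [h4] at h5
    omega
  · rw [hq] at h1 h2
    have h4 := od_three_seven hr h1
    have h5 := od_three_nine hs h2
    -- the number divisible by 757 is a power of 757
    have key : ∀ {n o : ℕ}, Ip ↥(chevE7.group F) n → (∀ t, t ∣ n → Cl n₁ n₂ t) → s ∣ n → r ∣ o →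
        (∀ t : ℕ, t.Prime → t ∣ n → ¬ t ∣ o) → ∃ a, n = 757 ^ a := by
      intro n o hn hcn hsn hro hco
      refine ⟨_, Nat.eq_prime_pow_of_unique_prime_dvd (by have := hn.one_lt; omega) fun {t} ht htn => ?_⟩
      rcases hcls t ht (hn.dvd t ht htn) with h6 | h6 | h6
      · exact absurd h6 (h.not_conn_two (hcn t htn))
      · exfalso
        have h7 : t = 1093 := by
          have := h6.2
          rw [hq] at this
          exact od_three_seven ht this
        rw [h7, ← h4] at htn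
        exact hco r hr htn hro
      · have := h6.2
        rw [hq] at this
        exact od_three_nine ht this
    rcases hrs with ⟨h6, h7⟩ | ⟨h6, h7⟩
    · obtain ⟨a, ha⟩ := key h.i2 (fun _ => Or.inr) h7 h6 (fun t ht h8 h9 => h.coprime ht h9 h8)
      refine ne_757 h.hm (d := -1) (Or.inr rfl) (a := a) ?_
      rw [← ha]
      exact h.e2
    · obtain ⟨a, ha⟩ := key h.i1 (fun _ => Or.inl) h7 h6 (fun t ht h8 h9 => h.coprime ht h8 h9)
      refine ne_757 h.hm (d := 1) (Or.inl rfl) (a := a) ?_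
      rw [← ha]
      exact h.e1

end Cfsg.Agent.H343.PG
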