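import Cfsg.Agent.H343.PG.Row

/-!
# The identification of `²F₄(q)` by its prime graph: `PSL₂(u)` (helper343, for S3635)
-/

set_option autoImplicit false
set_option linter.unusedSectionVars false

namespace Cfsg.Agent.H343.PG

open Cfsg Cfsg.Agent Cfsg.Agent.H493 Cfsg.Agent.H493.PG Cfsg.Agent.H493.PGRows Cfsg.Agent.H415.PG3

/-- the main case: `p` divides one of the numbers, `s ∣ (q + 1) / 2` the other one -/
theorem TF.psl_core {S : Type*} [Group S] [Finite S] {m n₁ n₂ : ℕ} (h : TF S m n₁ n₂) {p f : ℕ} (hp : p.Prime)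
    (hp12 : p % 12 = 1)
    (hS : ∀ k : ℕ, (∃ x : S, orderOf x = k) ↔ k ∣ p ∨ k ∣ (p ^ f - 1) / 2 ∨ k ∣ (p ^ f + 1) / 2)
    {d : ℤ} (hd : d = 1 ∨ d = -1) {n o : ℕ} (hn : (n : ℤ) = fN d (2 ^ m)) (ho : (o : ℤ) = fN (-d) (2 ^ m))
    (hin : Ip S n) (hio : Ip S o) (hcn : ∀ r, r ∣ n → Cl n₁ n₂ r) (hco : ∀ r, r ∣ o → Cl n₁ n₂ r) {s : ℕ} (hs : s.Prime)
    (hpn : p ∣ n) (hso : s ∣ o) (hsB : s ∣ (p ^ f + 1) / 2) : False := by
  have hq12 : p ^ f % 12 = 1 := by rw [Nat.pow_mod, hp12, one_pow]; rfl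
  have hA4 : 2 ∣ (p ^ f - 1) / 2 := by omega
  have hcop : ∀ r : ℕ, r.Prime → r ∣ n → ¬ r ∣ o := fun r hr h1 h2 =>
    not_both hr hd (b := 2 ^ m) (by rw [← hn]; exact_mod_cast h1) (by rw [← ho]; exact_mod_cast h2)
  have hAconn : ∀ r : ℕ, r.Prime → r ∣ (p ^ f - 1) / 2 → Conn S r 2 := by
    intro r hr h1
    obtain ⟨g, hg⟩ := (hS ((p ^ f - 1) / 2)).2 (Or.inr (Or.inl dvd_rfl))
    exact conn_of_dvd_orderOf (g := g) hr Nat.prime_two (hg ▸ h1) (hg ▸ hA4)
  have hBconn : ∀ r t : ℕ, r.Prime → t.Prime → r ∣ (p ^ f + 1) / 2 → t ∣ (p ^ f + 1) / 2 → Conn S r t := by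
    intro r t hr ht h1 h2
    obtain ⟨g, hg⟩ := (hS ((p ^ f + 1) / 2)).2 (Or.inr (Or.inr dvd_rfl))
    exact conn_of_dvd_orderOf (g := g) hr ht (hg ▸ h1) (hg ▸ h2)
  have hcard : ∀ r : ℕ, r.Prime → r ∣ Nat.card S → r = p ∨ r ∣ (p ^ f - 1) / 2 ∨ r ∣ (p ^ f + 1) / 2 := by
    intro r hr h1
    have := Fact.mk hr
    obtain ⟨x, hx⟩ := exists_prime_orderOf_dvd_card' r h1
    rcases (hS r).1 ⟨x, hx⟩ with h2 | h2 | h2
    · exact Or.inl ((Nat.prime_dvd_prime_iff_eq hr hp).1 h2)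
    · exact Or.inr (Or.inl h2)
    · exact Or.inr (Or.inr h2)
  have hdvd : ∀ r : ℕ, r ∣ (p ^ f - 1) / 2 ∨ r ∣ (p ^ f + 1) / 2 → r ∣ Nat.card S := by
    intro r h1
    obtain ⟨x, hx⟩ := (hS r).2 (Or.inr h1)
    rw [← hx]
    exact orderOf_dvd_natCard x
  have half : ∀ {r N : ℕ}, r.Prime → r ≠ 2 → N % 2 = 0 → r ∣ N → r ∣ N / 2 := by
    intro r N hr hr2 hN h1
    have h2 : r ∣ 2 * (N / 2) := by rwa [show 2 * (N / 2) = N by omega]
    exact ((Nat.Prime.dvd_mul hr).1 h2).resolve_left fun h3 => hr2 ((Nat.prime_dvd_prime_iff_eq hr Nat.prime_two).1 h3)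
  -- `n` is a power of `p`
  have hn0 : n ≠ 0 := by
    have := hin.one_lt
    omega
  have huniq : ∀ {t : ℕ}, t.Prime → t ∣ n → t = p := by
    intro t ht htn
    rcases hcard t ht (hin.dvd t ht htn) with h1 | h1 | h1
    · exact h1
    · exact absurd (hAconn t ht h1) (h.not_conn_two (hcn t htn))
    · exfalso
      exact hcop s hs (dvd_of_conn hin htn (hBconn t s ht hs h1 hsB)) hso
  have hpow := Nat.eq_prime_pow_of_unique_prime_dvd hn0 huniq
  refine psl_num h.hm hd (a := n.primeFactorsList.length) (f := f) (o := o) hp (by rw [← hpow]; exact hn) ho ?_ ?_ ?_ ?_ ?_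
  · intro r hr hr2 h1
    exact dvd_of_conn hio hso (hBconn s r hs hr hsB (half hr hr2 (by omega) h1))
  · intro r hr h1
    rcases hcard r hr (hio.dvd r hr h1) with h2 | h2 | h2
    · exact absurd h1 (hcop r hr (h2 ▸ hpn))
    · exact absurd (hAconn r hr h2) (h.not_conn_two (hco r h1))
    · exact h2.trans (Nat.div_dvd_of_dvd (by omega))
  · intro r hr hr2 h1
    rcases h.pi r hr (hdvd r (Or.inl (half hr hr2 (by omega) h1))) with h2 | h2
    · exact absurd h2 hr2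
    · exact h2
  · intro r hr h1
    have h2 : Conn S r 2 := by
      by_cases hr2 : r = 2
      · rw [hr2]
        exact Conn.refl _
      · exact hAconn r hr (half hr hr2 (by omega) h1)
    constructor
    · rw [← hn]
      intro h3
      exact h.not_conn_two (hcn r (by exact_mod_cast h3)) h2
    · rw [← ho]
      intro h3
      exact h.not_conn_two (hco r (by exact_mod_cast h3)) h2
  · intro h15
    apply h.e15
    rw [hS]
    refine Or.inr (Or.inl ?_)
    have h2 : 15 ∣ 2 * ((p ^ f - 1) / 2) := by rwa [show 2 * ((p ^ f - 1) / 2) = p ^ f - 1 by omega]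
    exact Nat.Coprime.dvd_of_dvd_mul_left (by norm_num) h2

theorem TF.not_psl_two {F : Type*} [Field F] [Fintype F] (h4 : 4 ≤ Fintype.card F) {m n₁ n₂ : ℕ}
    (h : TF (Matrix.ProjectiveSpecialLinearGroup (Fin 2) F) m n₁ n₂) : False := by
  obtain ⟨p, hpc⟩ := CharP.exists F
  have hp : p.Prime := CharP.char_is_prime F p
  have := Fact.mk hp
  have hS := S2475.result (F := F) p h4
  obtain ⟨f, -, hf⟩ := FiniteField.card F p
  set f' : ℕ := (f : ℕ) with hf'
  have hf1 : 1 ≤ f' := f.pos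
  clear_value f'
  set q := Fintype.card F with hq
  have hS' : ∀ k : ℕ, (∃ x : Matrix.ProjectiveSpecialLinearGroup (Fin 2) F, orderOf x = k) ↔
      k ∣ p ∨ k ∣ (q - 1) / Nat.gcd 2 (q - 1) ∨ k ∣ (q + 1) / Nat.gcd 2 (q - 1) := by
    intro k
    have h1 : (∃ x : Matrix.ProjectiveSpecialLinearGroup (Fin 2) F, orderOf x = k) ↔
      k ∈ Set.range (orderOf : Matrix.ProjectiveSpecialLinearGroup (Fin 2) F → ℕ) := Iff.rfl
    rw [h1, hS]
    exact Iff.rfl
  obtain ⟨r, s, hr, hs, h1, h2, hrd, hsd, hrs, hcr⟩ := h.pair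
  have hcls : ∀ r : ℕ, r.Prime → r ∣ Nat.card (Matrix.ProjectiveSpecialLinearGroup (Fin 2) F) →
      r = p ∨ r ∣ (q - 1) / Nat.gcd 2 (q - 1) ∨ r ∣ (q + 1) / Nat.gcd 2 (q - 1) := by
    intro r hr hd
    have := Fact.mk hr
    obtain ⟨x, hx⟩ := exists_prime_orderOf_dvd_card' r hd
    rcases (hS' r).1 ⟨x, hx⟩ with h2 | h2 | h2
    · exact Or.inl ((Nat.prime_dvd_prime_iff_eq hr hp).1 h2)
    · exact Or.inr (Or.inl h2)
    · exact Or.inr (Or.inr h2)
  have hAc : ∀ r t : ℕ, r.Prime → t.Prime → r ∣ (q - 1) / Nat.gcd 2 (q - 1) → t ∣ (q - 1) / Nat.gcd 2 (q - 1) →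
      Conn (Matrix.ProjectiveSpecialLinearGroup (Fin 2) F) r t := by
    intro r t hr ht h1 h2
    obtain ⟨g, hg⟩ := (hS' _).2 (Or.inr (Or.inl dvd_rfl))
    exact conn_of_dvd_orderOf (g := g) hr ht (hg ▸ h1) (hg ▸ h2)
  have hBc : ∀ r t : ℕ, r.Prime → t.Prime → r ∣ (q + 1) / Nat.gcd 2 (q - 1) → t ∣ (q + 1) / Nat.gcd 2 (q - 1) →
      Conn (Matrix.ProjectiveSpecialLinearGroup (Fin 2) F) r t := by
    intro r t hr ht h1 h2
    obtain ⟨g, hg⟩ := (hS' _).2 (Or.inr (Or.inr dvd_rfl))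
    exact conn_of_dvd_orderOf (g := g) hr ht (hg ▸ h1) (hg ▸ h2)
  have hr12 := h.mod1 hr h1
  have hs12 := h.mod2 hs h2
  rcases hp.eq_two_or_odd' with hp2 | hpo
  · -- characteristic 2
    have hq2 : 4 ∣ q := by
      rw [hf, hp2]
      have : 2 ≤ f' := by
        by_contra hc
        have : f' = 1 := by omega
        rw [this, hp2] at hf
        omega
      exact pow_dvd_pow 2 this
    have hg : Nat.gcd 2 (q - 1) = 1 := by
      have h3 : ¬ 2 ∣ q - 1 := by omega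
      exact (Nat.Prime.coprime_iff_not_dvd Nat.prime_two).2 h3
    simp only [hg, Nat.div_one] at hS' hcls hAc hBc
    have hrp : r ≠ p := by rintro rfl; omega
    have hsp : s ≠ p := by rintro rfl; omega
    -- the prime dividing `q - 1`
    have key : ∀ x : ℕ, x.Prime → Cl n₁ n₂ x → ¬ x ∣ q - 1 := by
      intro x hx hxc hxA
      have h3 : (q - 1) % 12 = 1 := mod_one (by omega) fun t ht htd => h.mod_of_conn ht hxc (hAc x t hx ht hxA htd)
      omega
    rcases hcls r hr hrd with h3 | h3 | h3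
    · exact hrp h3
    · exact key r hr (Or.inl h1) h3
    · rcases hcls s hs hsd with h4 | h4 | h4
      · exact hsp h4
      · exact key s hs (Or.inr h2) h4
      · exact hcr (hBc r s hr hs h3 h4)
  · have hqo : q % 2 = 1 := by
      rw [hf]
      exact Nat.odd_iff.1 hpo.pow
    have hg : Nat.gcd 2 (q - 1) = 2 := Nat.gcd_eq_left (by omega)
    rw [hg] at hS' hcls hAc hBc
    have hAm : 2 ∣ (q - 1) / 2 ∨ 2 ∣ (q + 1) / 2 := by omega
    have keyA : ∀ x : ℕ, x.Prime → Cl n₁ n₂ x → x ∣ (q - 1) / 2 → ¬ 2 ∣ (q - 1) / 2 := fun x hx hxc hxA h2 =>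
      h.not_conn_two hxc (hAc x 2 hx Nat.prime_two hxA h2)
    have keyB : ∀ x : ℕ, x.Prime → Cl n₁ n₂ x → x ∣ (q + 1) / 2 → ¬ 2 ∣ (q + 1) / 2 := fun x hx hxc hxA h2 =>
      h.not_conn_two hxc (hBc x 2 hx Nat.prime_two hxA h2)
    have fin : p % 12 = 1 → q % 12 = 1 := fun h3 => by rw [hf, Nat.pow_mod, h3, one_pow]; rfl
    rw [hf] at hS'
    rcases hcls r hr hrd with h3 | h3 | h3
    · -- `r = p`
      have h12 : p % 12 = 1 := by rw [← h3]; exact hr12
      have hq12 := fin h12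
      rcases hcls s hs hsd with h4 | h4 | h4
      · exact hrs (h3.trans h4.symm)
      · exact keyA s hs (Or.inr h2) h4 (by omega)
      · exact h.psl_core hp h12 hS' (d := 1) (Or.inl rfl) h.e1 h.e2 h.i1 h.i2 (fun _ => Or.inl) (fun _ => Or.inr) hs
          (h3 ▸ h1) h2 (by rw [← hf]; exact h4)
    · rcases hcls s hs hsd with h4 | h4 | h4
      · have h12 : p % 12 = 1 := by rw [← h4]; exact hs12
        have hq12 := fin h12
        exact keyA r hr (Or.inl h1) h3 (by omega)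
      · exact hcr (hAc r s hr hs h3 h4)
      · rcases hAm with h5 | h5
        · exact keyA r hr (Or.inl h1) h3 h5
        · exact keyB s hs (Or.inr h2) h4 h5
    · rcases hcls s hs hsd with h4 | h4 | h4
      · have h12 : p % 12 = 1 := by rw [← h4]; exact hs12
        exact h.psl_core hp h12 hS' (d := -1) (Or.inr rfl) h.e2 (by rw [neg_neg]; exact h.e1) h.i2 h.i1
          (fun _ => Or.inr) (fun _ => Or.inl) hr (h4 ▸ h2) h1 (by rw [← hf]; exact h3)
      · rcases hAm with h5 | h5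
        · exact keyA s hs (Or.inr h2) h4 h5
        · exact keyB r hr (Or.inl h1) h3 h5
      · exact hcr (hBc r s hr hs h3 h4)

end Cfsg.Agent.H343.PG
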