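import Cfsg.Agent.H343.PG.RowExc
import Cfsg.Agent.H378.TwRows

/-!
# The identification of `²F₄(q)` by its prime graph: twisted groups, summary (helper343, for S3635)
-/

set_option autoImplicit false
set_option linter.unusedSectionVars false

namespace Cfsg.Agent.H343.PG

open Cfsg Cfsg.Lie Cfsg.Agent Cfsg.Agent.H493 Cfsg.Agent.H493.PG Cfsg.Agent.H493.PGRows Cfsg.Agent.H415.PG3
open Cfsg.Agent.H378.ExcAdj (od)

variable {S : Type*} [Group S] [Finite S] {m n₁ n₂ : ℕ}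

theorem TF.not_iso2E6 (h0 : TF S m n₁ n₂) : ¬ Iso2E6 S := by
  rintro ⟨K, _, _, q, hq, hK, ⟨e⟩⟩
  have h := h0.congr e
  have hfin : Finite ↥(twistedE6 K q) := Finite.of_equiv S e.toEquiv
  obtain ⟨r, s, hr, hs, h1, h2, hrd, hsd, hrs, hcr⟩ := h.pair
  have hr12 := h.mod1 hr h1
  have hs12 := h.mod2 hs h2
  have k1 := h.not_conn_two (Or.inl h1)
  have k2 := h.not_conn_two (Or.inr h2)
  have h18 : ∀ x : ℕ, x.Prime → x % 12 = 1 → od q x = 18 → q ≠ 2 := by
    rintro x hx hx12 hxo rfl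
    rcases od_two_eighteen hx hxo with h3 | h3 <;> omega
  rcases H378.TwRows.near_2E6 hq hK hr hrd with h3 | h3 | h3
  · exact k1 (conn_of h3.conn)
  · rcases H378.TwRows.near_2E6 hq hK hs hsd with h4 | h4 | h4
    · exact k2 (conn_of h4.conn)
    · refine hcr (PGE6T.conn18 hq hK hr hs (by omega) (by omega) ?_ ?_)
      · rw [PGCyc.pv_c18]
        have := H378.CycTab.dvd18 hr h3
        rwa [H378.CycTab.pv18] at this
      · rw [PGCyc.pv_c18]
        have := H378.CycTab.dvd18 hs h4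
        rwa [H378.CycTab.pv18] at this
    · exact h18 r hr hr12 h3 h4.1
  · rcases H378.TwRows.near_2E6 hq hK hs hsd with h4 | h4 | h4
    · exact k2 (conn_of h4.conn)
    · exact h18 s hs hs12 h4 h3.1
    · obtain ⟨-, h5 | h5⟩ := h3
      · obtain ⟨-, h6 | h6⟩ := h4
        · exact hrs (h5.trans h6.symm)
        · omega
      · omega

theorem TF.not_isoRee (h0 : TF S m n₁ n₂) : ¬ IsoRee S := by
  rintro ⟨K, _, _, k, hk, hK, ⟨e⟩⟩
  have h := h0.congr e
  have : Finite ↥(Cfsg.Lie.twistedG2 K (3 ^ k)) := inferInstance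
  have h1 := fun d => Cfsg.Agent.S1159.result hk hK d
  set u := 3 ^ (2 * k + 1) with hu
  set z := 3 ^ (k + 1) with hz
  have hzu : z * z = 3 * u := by
    rw [hz, hu, ← pow_add, ← pow_succ']
    congr 1
    omega
  have hzu' : z + 1 ≤ u := by
    have h3 : 3 ^ (k + 1 + 1) ≤ u := Nat.pow_le_pow_right (by norm_num) (by omega)
    rw [pow_succ] at h3
    have : 1 ≤ z := Nat.one_le_pow _ _ (by norm_num)
    omega
  have hu4 : u % 4 = 3 := by
    rw [hu, pow_succ, pow_mul, Nat.mul_mod, Nat.pow_mod]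
    norm_num
  have hz4 : z % 4 = 1 ∨ z % 4 = 3 := by
    have : Odd z := Odd.pow (by decide)
    have := Nat.odd_iff.1 this
    omega
  have hconn : ∀ {N : ℕ}, (∃ g : ↥(Cfsg.Lie.twistedG2 K (3 ^ k)), orderOf g = N) → ∀ r s : ℕ, r.Prime → s.Prime → r ∣ N →
      s ∣ N → Conn ↥(Cfsg.Lie.twistedG2 K (3 ^ k)) r s := by
    rintro N ⟨g, hg⟩ r s hr hs h2 h3
    exact conn_of_dvd_orderOf (g := g) hr hs (hg ▸ h2) (hg ▸ h3)
  have hcA := hconn ((h1 (u - z + 1)).2 (Or.inr (Or.inr (Or.inr (Or.inr (Or.inl dvd_rfl))))))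
  have hcB := hconn ((h1 (u + z + 1)).2 (Or.inr (Or.inr (Or.inr (Or.inr (Or.inr dvd_rfl))))))
  have h23 := hconn ((h1 6).2 (Or.inl dvd_rfl))
  have hc1 := hconn ((h1 (u - 1)).2 (Or.inr (Or.inr (Or.inl dvd_rfl))))
  have hc2 := hconn ((h1 ((u + 1) / 2)).2 (Or.inr (Or.inr (Or.inr (Or.inl dvd_rfl)))))
  have key := h.split (A := fun r => r ∣ u - z + 1) (B := fun r => r ∣ u + z + 1) ?_ hcA hcB
  · obtain ⟨r, s, hr, hs, hA, hB, hrs⟩ := key
    have hcr : Cl n₁ n₂ r := by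
      rcases hrs with h1 | h1
      · exact Or.inl h1.1
      · exact Or.inr h1.1
    have hcs : Cl n₁ n₂ s := by
      rcases hrs with h1 | h1
      · exact Or.inr h1.2
      · exact Or.inl h1.2
    have h3 : (u - z + 1) % 12 = 1 := mod_one (by omega) fun t ht htd => h.mod_of_conn ht hcr (hcA r t hr ht hA htd)
    have h4 : (u + z + 1) % 12 = 1 := mod_one (by omega) fun t ht htd => h.mod_of_conn ht hcs (hcB s t hs ht hB htd)
    omega
  · intro r hr hrG
    have := Fact.mk hr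
    obtain ⟨x, hx⟩ := exists_prime_orderOf_dvd_card' r hrG
    rcases (h1 r).1 ⟨x, hx⟩ with h | h | h | h | h | h
    · exact Or.inl (h23 r 2 hr Nat.prime_two h (by norm_num))
    · refine Or.inl ?_
      have h' : r ∣ 3 ^ 2 := h
      rw [(Nat.prime_dvd_prime_iff_eq hr Nat.prime_three).1 (hr.dvd_of_dvd_pow h')]
      exact h23 3 2 Nat.prime_three Nat.prime_two (by norm_num) (by norm_num)
    · exact Or.inl (hc1 r 2 hr Nat.prime_two h (by omega))
    · exact Or.inl (hc2 r 2 hr Nat.prime_two h (by omega))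
    · exact Or.inr (Or.inl h)
    · exact Or.inr (Or.inr h)

theorem TF.not_isoSuzuki (h0 : TF S m n₁ n₂) : ¬ IsoSuzuki S := by
  rintro ⟨F, _, _, k, hk, hF, ⟨e⟩⟩
  obtain ⟨e'⟩ := Cfsg.Agent.OddCyclic.ClaimC.SzIso.iso hk hF
  have h := h0.congr (e.trans e'.symm)
  have hfin : Finite ↥(Cfsg.Sz F k) := Finite.of_equiv S (e.trans e'.symm).toEquiv
  set u := 2 ^ (2 * k + 1) with hu
  set z := 2 ^ (k + 1) with hz
  have hzu : z * z = 2 * u := by
    rw [hz, hu, ← pow_add, ← pow_succ']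
    congr 1
    omega
  have hu8 : 8 ∣ u := pow_dvd_pow 2 (show 3 ≤ 2 * k + 1 by omega)
  have hz4 : 4 ∣ z := pow_dvd_pow 2 (show 2 ≤ k + 1 by omega)
  have hu8' : 8 ≤ u := Nat.le_of_dvd (by positivity) hu8
  have hzu' : z + 1 ≤ u := by
    have h3 : 2 ^ (k + 1 + 1) ≤ u := Nat.pow_le_pow_right (by norm_num) (by omega)
    rw [pow_succ] at h3
    have : 1 ≤ z := Nat.one_le_pow _ _ (by norm_num)
    omega
  -- the classes
  have hcls : ∀ r : ℕ, r.Prime → r ≠ 2 → r ∣ Nat.card ↥(Cfsg.Sz F k) → ∃ N : ℕ, r ∣ N ∧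
      (N = u - 1 ∨ N = u + z + 1 ∨ N = u - z + 1) ∧ ∃ U : Subgroup ↥(Cfsg.Sz F k), IsCyclic U ∧ Nat.card U = N := by
    intro r hr h2 hrG
    have := Fact.mk hr
    obtain ⟨x, hx⟩ := exists_prime_orderOf_dvd_card' r hrG
    have hx1 : x ≠ 1 := by
      rintro rfl
      rw [orderOf_one] at hx
      exact hr.one_lt.ne hx
    obtain ⟨U, ⟨hU, hxU⟩, -⟩ := Cfsg.Agent.S2238.result hk hF x hx1
    rcases hU with ⟨P, rfl⟩ | ⟨hc, hN⟩
    · exfalso
      obtain ⟨k, hk⟩ := P.isPGroup' ⟨x, hxU⟩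
      have h3 : x ^ 2 ^ k = 1 := congrArg Subtype.val hk
      have h4 : r ∣ 2 ^ k := hx ▸ orderOf_dvd_of_pow_eq_one h3
      exact h2 ((Nat.prime_dvd_prime_iff_eq hr Nat.prime_two).1 (hr.dvd_of_dvd_pow h4))
    · have h5 : r ∣ Nat.card U := by
        rw [← hx, ← Subgroup.orderOf_mk x hxU]
        exact orderOf_dvd_natCard _
      exact ⟨Nat.card U, h5, hN, U, hc, rfl⟩
  obtain ⟨r, s, hr, hs, h1, h2, hrd, hsd, hrs, hcr⟩ := h.pair
  have hr12 := h.mod1 hr h1
  have hs12 := h.mod2 hs h2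
  obtain ⟨N, hrN, hN, U, hU, hUN⟩ := hcls r hr (by omega) hrd
  obtain ⟨M, hsM, hM, V, hV, hVM⟩ := hcls s hs (by omega) hsd
  have hNM : N ≠ M := by
    rintro rfl
    exact hcr (conn_of_cyclic hU hr hs (hUN ▸ hrN) (hUN ▸ hsM))
  have hN12 : N % 12 = 1 := mod_one (by rcases hN with h' | h' | h' <;> rw [h'] <;> omega) fun t ht htd =>
    h.mod_of_conn ht (Or.inl h1) (conn_of_cyclic hU hr ht (hUN ▸ hrN) (hUN ▸ htd))
  have hM12 : M % 12 = 1 := mod_one (by rcases hM with h' | h' | h' <;> rw [h'] <;> omega) fun t ht htd =>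
    h.mod_of_conn ht (Or.inr h2) (conn_of_cyclic hV hs ht (hVM ▸ hsM) (hVM ▸ htd))
  have hu3 : u % 3 = 2 := by
    rw [hu, pow_succ, pow_mul, Nat.mul_mod, Nat.pow_mod]
    norm_num
  have hz3 : z % 3 = 1 ∨ z % 3 = 2 := by
    have h3 : ¬ 3 ∣ z := fun h3 => by
      have := (Nat.prime_dvd_prime_iff_eq Nat.prime_three Nat.prime_two).1 (Nat.prime_three.dvd_of_dvd_pow h3)
      omega
    omega
  rcases hN with h3 | h3 | h3 <;> rcases hM with h4 | h4 | h4 <;> omega

theorem TF.not_iso3D4 (h0 : TF S m n₁ n₂) (h2 : 2 ∣ Nat.card S) : ¬ Iso3D4 S := fun h => h0.not_few (PGD4T.few_iso3D4 h) h2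

theorem TF.not_isoE6 (h0 : TF S m n₁ n₂) (h2 : 2 ∣ Nat.card S) : ¬ IsoChevE6 S := fun h => h0.not_few (few_isoE6 h) h2

/-- **Summary**: a known simple group with the two isolated numbers of `²F₄(q)` is `E₈(u)` or `²F₄(u)`. -/
theorem TF.cases (h0 : TF S m n₁ n₂) (h2 : 2 ∣ Nat.card S) (hna : ¬ IsMulCommutative S) (hk : IsKnownSimple' S) :
    IsoE8 S ∨ Iso2F4 S := by
  rcases hk with h | h | h | h | h | h | h | h | h | h
  · exfalso
    have h' : (Nat.card S).Prime := h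
    have := Fact.mk h'
    have hcyc : IsCyclic S := isCyclic_of_prime_card (p := Nat.card S) rfl
    exact hna inferInstance
  · exact absurd h h0.not_isAlternating
  · exact absurd h (h0.not_isPSL h2)
  · exact (h0.not_few (few_psp h) h2).elim
  · exact absurd h (h0.not_isPSU h2)
  · exact (h0.not_few (few_omegaOdd h) h2).elim
  · exact (h0.not_few (few_omegaPlus h) h2).elim
  · exact absurd h h0.not_isPOmegaMinus
  · rcases h with h | h | h | h | h | h | h | h | h | h | h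
    · exact absurd h h0.not_isoChevG2
    · exact absurd h h0.not_isoF4
    · exact absurd h (h0.not_isoE6 h2)
    · exact absurd h h0.not_isoE7
    · exact Or.inl h
    · exact absurd h h0.not_iso2E6
    · exact absurd h (h0.not_iso3D4 h2)
    · exact absurd h h0.not_isoSuzuki
    · exact absurd h h0.not_isoRee
    · exact Or.inr h
    · exact absurd h h0.not_isTits
  · exact absurd h h0.not_isSporadic

end Cfsg.Agent.H343.PG
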